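import Mathlib
import Cfsg.Agent.NR2.Ctx
import Cfsg.Agent.PLocal.PrimeCoreAmb

set_option autoImplicit false
set_option linter.unusedSectionVars false

/-! Consequences of `2`-constraint of an involution centralizer for the fusion in a Sylow
`2`-subgroup. -/

namespace Cfsg.Agent.NE8
open Cfsg Subgroup MacW PLocal.Amb NR2
open scoped commutatorElement

theorem loc {H : Type*} [Group H] [Finite H] (hc : IsPConstrained 2 H) {T : Subgroup H}
    (hT : IsSyl 2 T ⊤) : ∃ Q ≤ T, T ≤ 𝐍[Q] ∧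
      (∀ h, ∀ x ∈ Q, h * x * h⁻¹ ∈ T → ∃ n ∈ 𝐍[Q], n * x * n⁻¹ = h * x * h⁻¹) ∧
      ∀ z, z * z = 1 → (∀ h, h * z = z * h) → ∀ k ∈ T, (∀ q ∈ Q, cm q k ∈ zpowers z) → k ∈ Q := by
  have : Fact (Nat.Prime 2) := ⟨Nat.prime_two⟩
  have : (pPrimePCore 2 H).Normal := by unfold pPrimePCore; infer_instance
  have hs : IsSyl 2 (T ⊓ pPrimePCore 2 H) (pPrimePCore 2 H) :=
    hT.inf_of_le le_top (normalizer_eq_top _).ge
  have hn : T ≤ 𝐍[T ⊓ pPrimePCore 2 H] :=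
    le_normalizer_inf le_normalizer (le_top.trans (normalizer_eq_top _).ge)
  refine ⟨_, inf_le_left, hn, fun h x hx hT' => ?_, fun z z2 zc k hk h => ⟨hk, ?_⟩⟩
  · obtain ⟨m, hm, y, hy, rfl⟩ := hs.frattini (g := h) (by rw [normalizer_eq_top]; trivial)
    rw [PLocal.PCA.pPrimePCore_eq_sup_of_isSyl hs, sup_comm,
      mem_sup_of_le_normalizer_left (le_top.trans (normalizer_eq_top _).ge)] at hm
    obtain ⟨o, ho, q, hq, rfl⟩ := hm
    have h1 := mul_mem (le_normalizer hq) hy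
    refine ⟨_, h1, ?_⟩
    have h2 := conj_mem_of_mem_normalizer h1 hx
    have h3 : (q * y * x * (q * y)⁻¹)⁻¹ * (o * q * y * x * (o * q * y)⁻¹) = 1 := by
      refine eq_one_of_isPGroup_of_coprime hT.pgrp (mul_mem (inv_mem h2.1) hT') ?_
      refine Grp.orderOf_coprime_of_mem_pPrimeCore ?_
      have := mul_mem ((inferInstance : (pPrimeCore 2 H).Normal).conj_mem _ ho
        (q * y * x * (q * y)⁻¹)⁻¹) (inv_mem ho)
      convert this using 1
      group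
    exact inv_mul_eq_one.1 h3
  · let π := QuotientGroup.mk' (pPrimeCore 2 H)
    have hπ : Function.Surjective π := QuotientGroup.mk'_surjective _
    have hz : ∀ a, a * π z = π z * a := fun a => by
      obtain ⟨a, rfl⟩ := hπ a; rw [← map_mul, zc, map_mul]
    have z3 : π z * π z = 1 := by rw [← map_mul, z2, map_one]
    have hZ : (zpowers (π z)).Normal := ⟨fun c hc g => by
      rcases (Misc.mem_zpowers_two z3).1 hc with rfl | rfl
      · simp
      · rw [hz, mul_inv_cancel_right]; exact mem_zpowers _⟩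
    let Y := cen ⊤ (zpowers (π z)) (pCore 2 (H ⧸ pPrimeCore 2 H)) fun s _ n hn => hZ.conj_mem n hn s
    have hY : Y.Normal := ⟨fun y hy g => ⟨trivial, fun d hd => by
      have := hZ.conj_mem _ (hy.2 _ ((inferInstance : (pCore 2 _).Normal).conj_mem d hd g⁻¹)) g
      convert this using 1
      unfold cm; group⟩⟩
    have hp : IsPGroup 2 Y := isPGroup_iff.2 fun y hy => by
      have h1 : y ^ 2 ∈ pCore 2 (H ⧸ pPrimeCore 2 H) := PLocal.PCA.isPConstrained_iff.1 hc fun d hd => by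
        refine sq_comm_of ?_ ?_ <;> rcases (Misc.mem_zpowers_two z3).1 (hy.2 d hd) with e | e <;> rw [e]
        · simp
        · exact hz y
        · simp
        · rw [pow_two, z3]
      obtain ⟨j, hj⟩ := isPGroup_iff.1 (isPGroup_pCore' 2 _) _ h1
      exact ⟨j + 1, by rw [pow_succ', pow_mul, hj]⟩
    refine le_pCore' hp (show π k ∈ Y from ⟨trivial, fun d hd => ?_⟩)
    rw [← PLocal.PCA.map_eq_pCore_of_isSyl hs] at hd
    obtain ⟨q, hq, rfl⟩ := hd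
    rw [cm_swap, inv_mem_iff, ← map_cm]
    obtain ⟨i, hi⟩ := h q hq
    exact ⟨i, by rw [← hi, map_zpow]⟩

variable {P G : Type*} [Group P] [Group G]

/-- local data at an involution `w` with `2`-constrained centralizer -/
structure Lc (ι : P →* G) (w : P) (Q : Subgroup P) (N : Subgroup G) : Prop where
  le : ∀ q ∈ Q, q * w = w * q
  cen : ∀ n ∈ N, Cj ι n w w
  syl : IsSyl 2 ((centralizer ({w} : Set P)).map ι) N
  nrm : ∀ n ∈ N, ∀ q ∈ Q, ∃ q' ∈ Q, Cj ι n q q'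
  ctl : ∀ c, Cj ι c w w → ∀ x ∈ Q, ∀ y, Cj ι c x y → ∃ n ∈ N, Cj ι n x y
  stab : ∀ k, k * w = w * k → (∀ q ∈ Q, cm q k ∈ zpowers w) → k ∈ Q

theorem exists_lc [Finite G] {ι : P →* G} (i : Function.Injective ι) {w : P} (w2 : w * w = 1)
    (hc : IsPConstrained 2 (centralizer ({ι w} : Set G)))
    (hs : IsSyl 2 ((centralizer ({w} : Set P)).map ι) (centralizer ({ι w} : Set G))) :
    ∃ Q N, Lc ι w Q N := by
  have : Fact (Nat.Prime 2) := ⟨Nat.prime_two⟩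
  set H := centralizer ({ι w} : Set G) with hH
  have mH : ∀ {g}, g ∈ H ↔ g * ι w = ι w * g := mem_centralizer_singleton_iff
  have mT : ∀ {k : P}, k * w = w * k → ι k ∈ H := fun e => mH.2 (by rw [← map_mul, e, map_mul])
  obtain ⟨S, hS⟩ := hs.exists_sylow
  obtain ⟨Q, h1, h2, h3, h4⟩ := loc hc (isSyl_top S)
  rw [hS] at h1 h2 h3 h4
  have mS : ∀ {k : P} (e : k * w = w * k), (⟨ι k, mT e⟩ : H) ∈
      ((centralizer ({w} : Set P)).map ι).subgroupOf H := fun e =>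
    ⟨_, mem_centralizer_singleton_iff.2 e, rfl⟩
  have mQ : ∀ {q : P}, q ∈ (Q.map H.subtype).comap ι ↔ ∃ e : q * w = w * q, ⟨ι q, mT e⟩ ∈ Q := fun {q} =>
    ⟨fun ⟨x, hx, e⟩ => by
      have e1 : q * w = w * q := i (by rw [map_mul, map_mul, ← mH, ← e]; exact x.2)
      exact ⟨e1, by obtain rfl : x = ⟨ι q, mT e1⟩ := Subtype.ext e; exact hx⟩, fun ⟨_, e⟩ => ⟨_, e, rfl⟩⟩
  have eQ : ∀ x ∈ Q, ∃ q, ∃ e : q * w = w * q, x = ⟨ι q, mT e⟩ := fun x hx => by
    obtain ⟨q, hq, e⟩ := h1 hx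
    exact ⟨q, mem_centralizer_singleton_iff.1 hq, Subtype.ext e.symm⟩
  refine ⟨(Q.map H.subtype).comap ι, (𝐍[Q]).map H.subtype, fun q hq => (mQ.1 hq).1, ?_,
    hs.mono ?_ (map_subtype_le _), ?_, fun c hc x hx y e => ?_, fun k hk h => ?_⟩
  · rintro _ ⟨n, -, rfl⟩; exact Cj.self.2 (mH.1 n.2)
  · rintro _ ⟨k, hk, rfl⟩
    exact ⟨_, h2 (mS (mem_centralizer_singleton_iff.1 hk)), rfl⟩
  · rintro _ ⟨n, hn, rfl⟩ q hq
    obtain ⟨e, hq⟩ := mQ.1 hq
    obtain ⟨q', e', h⟩ := eQ _ (conj_mem_of_mem_normalizer hn hq)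
    exact ⟨q', mQ.2 ⟨e', h ▸ conj_mem_of_mem_normalizer hn hq⟩, (congrArg Subtype.val h).symm⟩
  · obtain ⟨e1, hx⟩ := mQ.1 hx
    have e2 := (e.comm i hc).1 e1
    obtain ⟨n, hn, e3⟩ := h3 ⟨c, mH.2 (Cj.self.1 hc)⟩ _ hx (by
      convert mS e2 using 1; exact Subtype.ext (Eq.symm e))
    exact ⟨n, ⟨n, hn, rfl⟩, (show ι y = _ from e).trans (congrArg Subtype.val e3).symm⟩
  · refine mQ.2 ⟨hk, h4 ⟨ι w, mT rfl⟩ (Subtype.ext (by simp [← map_mul, w2]))
      (fun h => Subtype.ext (mH.1 h.2)) _ (mS hk) fun x hx => ?_⟩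
    obtain ⟨q, e, rfl⟩ := eQ x hx
    obtain ⟨j, hj⟩ := h q (mQ.2 ⟨e, hx⟩)
    refine ⟨j, Subtype.ext ?_⟩
    have := congrArg ι hj
    rw [map_cm] at this
    simpa [cm] using this

namespace Lc
variable {ι : P →* G} {w : P} {Q : Subgroup P} {N : Subgroup G} (l : Lc ι w Q N)
include l

theorem mem {k : P} (h : k * w = w * k) : ι k ∈ N :=
  l.syl.le ⟨k, mem_centralizer_singleton_iff.2 h, rfl⟩

theorem self {k : P} (h : k * w = w * k) (h' : ∀ q ∈ Q, q * k = k * q) : k ∈ Q :=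
  l.stab k h fun q hq => by rw [cm_one_iff.2 (h' q hq)]; exact one_mem _

theorem conj (i : Function.Injective ι) {k q : P} (h : k * w = w * k) (hq : q ∈ Q) : k * q * k⁻¹ ∈ Q := by
  obtain ⟨q', h1, h2⟩ := l.nrm _ (l.mem h) q hq
  rwa [(h2.eq_iff i (Cj.of k q)).1 rfl] at h1

theorem surj {n : G} (hn : n ∈ N) {q : P} (hq : q ∈ Q) : ∃ q' ∈ Q, Cj ι n q' q := by
  obtain ⟨q', h1, h2⟩ := l.nrm _ (inv_mem hn) q hq
  exact ⟨q', h1, by simpa using h2.symm⟩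

/-- conjugates of a central element of `Q` are central in `Q` -/
theorem cen_cj (i : Function.Injective ι) {n : G} (hn : n ∈ N) {x a : P} (e : Cj ι n x a) (hx : x ∈ Q)
    (h : ∀ q ∈ Q, q * x = x * q) : a ∈ Q ∧ ∀ q ∈ Q, q * a = a * q := by
  obtain ⟨q', h1, h2⟩ := l.nrm n hn x hx
  refine ⟨(h2.eq_iff i e).1 rfl ▸ h1, fun q hq => ?_⟩
  obtain ⟨q', h1, h2⟩ := l.surj hn hq
  exact (h2.comm i e).1 (h q' h1)

end Lc

end Cfsg.Agent.NE8
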