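import Mathlib
import Cfsg.Agent.NE8.Loc

set_option autoImplicit false
set_option linter.unusedSectionVars false

/-! The normal four-group of a Sylow `2`-subgroup without normal `E₈`: basic facts. -/

namespace Cfsg.Agent.NE8
open Cfsg Subgroup MacW PLocal.Amb NR2
open scoped commutatorElement

variable {P G : Type*} [Group P] [Group G]

theorem closure_sq {N : Subgroup P} [N.Normal] {D : Set P} (h1 : ∀ d ∈ D, d ^ 2 ∈ N)
    (h2 : ∀ d ∈ D, ∀ e ∈ D, cm d e ∈ N) {x : P} (hx : x ∈ Subgroup.closure D) : x ^ 2 ∈ N := by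
  have k : ∀ {a b : P}, cm a b ∈ N ↔ (a : P ⧸ N) * b = b * a := fun {a b} => by
    rw [← QuotientGroup.eq_one_iff, ← cm_one_iff]; rfl
  have h3 : ∀ y ∈ Subgroup.closure D, ∀ e ∈ D, (y : P ⧸ N) * e = e * y := fun y hy e he => by
    induction hy using closure_induction with
    | mem d hd => exact k.1 (h2 d hd e he)
    | one => simp
    | mul a b _ _ ha hb => rw [QuotientGroup.mk_mul, mul_assoc, hb, ← mul_assoc, ha, mul_assoc]
    | inv a _ ha => exact (Commute.inv_left ha).eq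
  have h4 : ∀ y ∈ Subgroup.closure D, ∀ e ∈ Subgroup.closure D, (y : P ⧸ N) * e = e * y :=
    fun y hy e he => by
    induction he using closure_induction with
    | mem d hd => exact h3 y hy d hd
    | one => simp
    | mul a b _ _ ha hb => exact (Commute.mul_right ha hb).eq
    | inv a _ ha => exact (Commute.inv_right ha).eq
  rw [← QuotientGroup.eq_one_iff, QuotientGroup.mk_pow]
  induction hx using closure_induction with
  | mem d hd => exact (QuotientGroup.eq_one_iff _).2 (h1 d hd)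
  | one => simp
  | mul a b ha hb ia ib => rw [QuotientGroup.mk_mul, Commute.mul_pow (h4 a ha b hb), ia, ib, one_mul]
  | inv a _ ia => rw [QuotientGroup.mk_inv, inv_pow, ia, inv_one]

theorem card_le_sixteen [Finite P] (hP : IsPGroup 2 P) (no : NoE8 P) {E : Subgroup P}
    (h : ∀ x ∈ E, x ^ 2 = 1) : Nat.card E ≤ 16 := by
  simpa using card_le_sq hP no (K := E) (N := ⊥) bot_le h

theorem exists_norm_norm [Finite P] (hP : IsPGroup 2 P) {Y : Subgroup P} (h : Y ≠ ⊤) :
    ∃ y ∈ 𝐍[Y], y ∉ Y := by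
  have : Fact (Nat.Prime 2) := ⟨Nat.prime_two⟩
  obtain ⟨y, h1, h2⟩ := SetLike.exists_of_lt (lt_inf_normalizer (hP.to_subgroup ⊤) h.lt_top)
  exact ⟨y, h1.2, h2⟩

theorem thompson_ext [Finite G] {ι : P →* G} {S : Sylow 2 G} (F : Fz ι S) {C : Subgroup P}
    (hC : ∀ x y : P, x ∉ C → y ∉ C → x⁻¹ * y ∈ C) {t : P} (ht : t ∉ C) (h2 : t ^ 2 = 1) :
    ∃ g, ∃ c ∈ C, Cj ι g t c ∧ ∀ x, x * t = t * x → ∃ y, Cj ι g x y := by
  have := F.finite
  have hS : (S : Subgroup G) = (⊤ : Subgroup P).map ι := by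
    ext g; exact (F.range g).trans (by simp)
  have c1 := card_le_of_idx (R := C) (W := ⊤) le_top fun x _ y _ => hC x y
  have c2 := two_mul_le (A := C) (B := ⊤) le_top trivial ht
  have c3 := C.index_mul_card
  have : 0 < Nat.card C := Nat.card_pos
  rcases Transfer.thompson_transfer_extremal (P := (S : Subgroup G)) (Q := C.map ι)
    (Nat.coprime_two_left.1 ((Nat.Prime.coprime_iff_not_dvd Nat.prime_two).2 S.not_dvd_index))
    (hS ▸ map_mono le_top) (by
      rw [hS, relIndex_map_map_of_injective _ _ F.inj, relIndex_top_right]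
      rw [card_top] at c1 c2
      nlinarith) (u := ι t) (by rw [← map_pow, h2, map_one]) (F.pmap (centralizer {t})) (by
        rintro _ ⟨x, hx, rfl⟩
        rw [← map_mul, mem_centralizer_singleton_iff.1 hx, map_mul])
    with ⟨M, h3, h4, -⟩ | ⟨g, ⟨c, hc, e⟩, h⟩
  · exact absurd h4 (F.idx M h3)
  · exact ⟨g, c, hc, e, fun x hx =>
      (F.range _).1 (h (conj_mem_cj g ⟨x, mem_centralizer_singleton_iff.2 hx, rfl⟩))⟩

/-- a subgroup generated by two anticommuting elements with square `z` -/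
theorem exists_nq8 {z x y : P} (z1 : z ≠ 1) (zz : z * z = 1) (zc : ∀ g, g * z = z * g) (hx : x ^ 2 = z)
    (hy : y ^ 2 = z) (hxy : cm x y = z) (cx : ∀ s, cm s x ∈ zpowers z) (cy : ∀ s, cm s y ∈ zpowers z) :
    ∃ D, NQ8 D z := by
  have zp : ∀ {c}, c ∈ zpowers z ↔ c = 1 ∨ c = z := Misc.mem_zpowers_two zz
  have hZ : (zpowers z).Normal := ⟨fun c hc g => by
    rcases zp.1 hc with rfl | rfl
    · simp
    · rw [zc, mul_inv_cancel_right]; exact mem_zpowers _⟩
  have ne : x * y ≠ y * x := fun e => z1 (hxy ▸ cm_one_iff.2 e)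
  have zcen : ∀ {c}, c ∈ zpowers z → ∀ g, g * c = c * g := fun hc g => by
    rcases zp.1 hc with rfl | rfl
    · simp
    · exact zc g
  let O := om ⊤ (zpowers z)
  have nO : ∀ {H : Subgroup P}, zpowers z ≤ H → H ≤ O → H.Normal := fun h1 h2 =>
    Grp.PChain.normal_of_commutator_mem fun b hb g => h1 ((h2 hb).2.2 g trivial)
  have mO : ∀ {d}, d ^ 2 = z → (∀ s, cm s d ∈ zpowers z) → d ∈ O := fun e h =>
    ⟨trivial, e ▸ mem_zpowers z, fun s _ => by rw [cm_swap]; exact inv_mem (h s)⟩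
  have n1 : x ∈ 𝐍[zpowers z] := le_normalizer_of_normal (mem_top x)
  have s1 : x ^ 2 ∈ zpowers z := hx ▸ mem_zpowers z
  have l1 : adj _ x n1 s1 ≤ O := adj_le (le_om le_top) (mO hx cx)
  have := nO le_adj l1
  have n2 : y ∈ 𝐍[adj _ x n1 s1] := le_normalizer_of_normal (mem_top y)
  have s2 : y ^ 2 ∈ adj _ x n1 s1 := le_adj (hy ▸ mem_zpowers z)
  have l2 : adj _ y n2 s2 ≤ O := adj_le l1 (mO hy cy)
  have yx : y * x = z * (x * y) := by
    rw [← inv_eq_of_mul_eq_one_left zz, ← hxy, ← cm_swap]; unfold cm; group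
  have nx : x ∉ zpowers z := fun e => ne (zcen e y).symm
  have ny : y ∉ adj _ x n1 s1 := fun e => (mem_adj.1 e).elim (fun e => ne (zcen e x)) fun e =>
    ne (by have := zcen e x; rw [← mul_assoc] at this; exact mul_right_cancel this)
  have sq : ∀ {d w : P}, d * w ∈ zpowers z → w ^ 2 = z → d ^ 2 = z := fun {d w} e h => by
    have e1 : d = d * w * w⁻¹ := by group
    rw [e1, Commute.mul_pow (zcen e _).symm, inv_pow, h, inv_eq_of_mul_eq_one_left zz]
    rcases zp.1 e with f | f <;> rw [f]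
    · simp
    · rw [pow_two, zz, one_mul]
  have yx2 : (y * x) ^ 2 = z := by
    calc (y * x) ^ 2 = y * (x * y) * x := by rw [pow_two]; group
      _ = y * (z * (y * x)) * x := by rw [yx, ← mul_assoc z, zz, one_mul]
      _ = z * (y ^ 2 * x ^ 2) := by rw [← mul_assoc y z, zc y, pow_two, pow_two]; group
      _ = z := by rw [hx, hy, zz, mul_one]
  refine ⟨adj _ y n2 s2, nO (le_adj.trans le_adj) l2, ?_, le_adj (le_adj (mem_zpowers z)), z1, zz, zc,
    fun s d hd => by rw [cm_swap]; exact inv_mem ((l2 hd).2.2 s trivial), fun d hd nd => ?_,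
    ⟨x, le_adj self_mem_adj, y, self_mem_adj, hxy⟩, fun d hd hc => ?_⟩
  · rw [card_adj ny, card_adj nx, Misc.card_zpowers_two (orderOf_eq_prime (by rwa [pow_two]) z1)]
  · rcases mem_adj.1 hd with e | e <;> rcases mem_adj.1 e with e | e
    exacts [absurd e nd, sq e hx, sq e hy, sq (mul_assoc d y x ▸ e) yx2]
  · have c1 := hc x (le_adj self_mem_adj)
    have c2 := hc y self_mem_adj
    rcases mem_adj.1 hd with e | e <;> rcases mem_adj.1 e with e | e
    · exact e
    · have := zcen e y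
      rw [← mul_assoc, c2, mul_assoc, mul_assoc, mul_right_inj] at this
      exact absurd this.symm ne
    · have := zcen e x
      rw [← mul_assoc, c1, mul_assoc, mul_assoc, mul_right_inj] at this
      exact absurd this ne
    · have := zcen e x
      rw [← mul_assoc, mul_left_inj, ← mul_assoc, c1, mul_assoc, mul_assoc, mul_right_inj] at this
      exact absurd this ne

/-- `z` is a central involution in the normal four-group `U` -/
structure Pz (ι : P →* G) (S : Sylow 2 G) (U : Subgroup P) (z : P) : Prop extends Pre ι S U where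
  hz : z ∈ U
  z1 : z ≠ 1
  zc : ∀ x, x * z = z * x

section pre
variable [Finite G] {ι : P →* G} {S : Sylow 2 G} {U : Subgroup P} (c : Pre ι S U)
include c

local notation "𝐊" => centralizer (U : Set P)

theorem sqK (p : P) : p ^ 2 ∈ 𝐊 := by
  by_cases h : p ∈ 𝐊
  · exact pow_mem h 2
  · simpa [pow_two] using c.idxK p⁻¹ p (by rwa [inv_mem_iff]) h

theorem cmK (p q : P) : cm p q ∈ 𝐊 := cm_mem_of_sq (K := ⊤) (fun x _ => sqK c x) trivial trivial

theorem mem_of_set {D : Set P} (h1 : ∀ d ∈ D, d ^ 2 = 1) (h2 : ∀ d ∈ D, ∀ e ∈ D, d * e = e * d)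
    (h3 : ∀ d ∈ D, d ∈ 𝐊) (h4 : ∀ d ∈ D, ∀ p, p * d * p⁻¹ ∈ D) {d : P} (hd : d ∈ D) : d ∈ U := by
  have := c.finite
  have := c.normal
  have : (Subgroup.closure D).Normal := ⟨fun x hx p => by
    refine (closure_le ((Subgroup.closure D).comap (MulAut.conj p).toMonoidHom)).2 (fun d hd => ?_) hx
    exact subset_closure (h4 d hd p)⟩
  exact le_of_four c.no c.card c.sq (E := Subgroup.closure D)
    (fun x hx => closure_sq (N := ⊥) h1 (fun d hd e he => cm_one_iff.2 (h2 d hd e he)) hx)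
    (fun u hu e he => (closure_le 𝐊).2 h3 he u hu) (subset_closure hd)

theorem exists_pz : ∃ z, Pz ι S U z := by
  have := c.finite
  have := c.normal
  obtain ⟨z, hz, h1, h2⟩ := exists_om c.two U ⊥ fun e => by
    have := card_le_of_le e
    rw [c.card, card_bot] at this; omega
  exact ⟨z, c, hz, h1, fun x => (cm_one_iff.1 (h2.2.2 x trivial)).symm⟩

theorem cen_mem {w : P} (h2 : w ^ 2 = 1) (h : ∀ x, x * w = w * x) : w ∈ U :=
  c.mem_U h2 (fun u _ => h u) fun s => by rw [cm_one_iff.2 (h s).symm]; exact one_mem _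

end pre

namespace Pz
variable [Finite G] {ι : P →* G} {S : Sylow 2 G} {U : Subgroup P} {z : P} (c : Pz ι S U z)
include c

local notation "𝐊" => centralizer (U : Set P)

theorem zz : z * z = 1 := c.uu c.hz

theorem zp {x : P} : x ∈ zpowers z ↔ x = 1 ∨ x = z := Misc.mem_zpowers_two c.zz

theorem zp_cen {x : P} (hx : x ∈ zpowers z) (g : P) : g * x = x * g := by
  rcases c.zp.1 hx with e | e <;> rw [e]
  · simp
  · exact c.zc g

theorem zp_normal : (zpowers z).Normal :=
  ⟨fun x hx g => by rw [c.zp_cen hx, mul_inv_cancel_right]; exact hx⟩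

theorem zp_le : zpowers z ≤ U := zpowers_le.2 c.hz

theorem four' {u v : P} (hu : u ∈ U) (h : u ∉ zpowers z) (hv : v ∈ U) :
    v = 1 ∨ v = z ∨ v = u ∨ v = z * u :=
  c.four c.hz hu c.z1 (fun e => h (c.zp.2 (Or.inl e))) (fun e => h (c.zp.2 (Or.inr e))) hv

theorem cmU {u : P} (hu : u ∈ U) (p : P) : cm p u ∈ zpowers z := by
  by_cases h : u ∈ zpowers z
  · rw [cm_one_iff.2 (c.zp_cen h p)]; exact one_mem _
  have h1 : p * u * p⁻¹ ∉ zpowers z := fun e => h (by simpa [mul_assoc] using c.zp_normal.conj_mem _ e p⁻¹)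
  rcases c.four' hu h (c.normal.conj_mem u hu p) with e | e | e | e
  · exact absurd (c.zp.2 (Or.inl e)) h1
  · exact absurd (c.zp.2 (Or.inr e)) h1
  · rw [cm, e]; simp
  · rw [cm, e]; simp

theorem exists_u : ∃ u ∈ U, u ∉ zpowers z :=
  have := c.finite
  Misc.exists_mem_not_mem_of_card_lt (A := zpowers z) (B := U)
    ((card_zpowers_le (c.sq z c.hz)).trans_lt (by rw [c.card]; omega))

theorem memK {u x : P} (hu : u ∈ U) (h : u ∉ zpowers z) : x ∈ 𝐊 ↔ x * u = u * x := by
  refine ⟨Pre.cenK hu, fun e v hv => ?_⟩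
  rcases c.four' hu h hv with rfl | rfl | rfl | rfl
  · simp
  · exact (c.zc x).symm
  · exact e.symm
  · rw [mul_assoc, ← e, ← mul_assoc, ← c.zc, mul_assoc]

theorem cm_eq_z {u x : P} (hu : u ∈ U) (h : u ∉ zpowers z) (hx : x ∉ 𝐊) : cm x u = z :=
  (c.zp.1 (c.cmU hu x)).resolve_left fun e => hx ((c.memK hu h).2 (cm_one_iff.1 e))

theorem conj_u {u x : P} (hu : u ∈ U) (h : u ∉ zpowers z) (hx : x ∉ 𝐊) : x * u * x⁻¹ = z * u := by
  rw [← c.cm_eq_z hu h hx]; unfold cm; group

theorem cm_mul {x y p : P} (hy : cm p y ∈ zpowers z) : cm p (x * y) = cm p x * cm p y := by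
  calc cm p (x * y) = cm p x * (x * cm p y) * x⁻¹ := by unfold cm; group
    _ = _ := by rw [c.zp_cen hy]; group

/-- uniqueness of the normal four-group -/
theorem mem_U' {v : P} (v2 : v ^ 2 = 1) (hv : ∀ s, cm s v ∈ zpowers z) : v ∈ U := by
  have := c.finite
  have := c.zp_normal
  have k : ∀ {v}, v ^ 2 = 1 → v ∈ 𝐊 → (∀ s, cm s v ∈ zpowers z) → v ∈ U := fun v2 hK hv =>
    c.mem_U v2 hK fun s => by rw [cm_swap]; exact inv_mem (c.zp_le (hv s))
  by_contra n
  have hK : v ∉ 𝐊 := fun e => n (k v2 e hv)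
  obtain ⟨u, hu, u1⟩ := c.exists_u
  have vu := c.cm_eq_z hu u1 hK
  have hn : (𝐊 ⊓ centralizer {v}).Normal := ⟨fun x hx p => ⟨c.K_normal.conj_mem x hx.1 p, by
    have e1 := mem_centralizer_singleton_iff.1 hx.2
    have e2 : p⁻¹ * v * p = cm p⁻¹ v * v := by unfold cm; group
    refine mem_centralizer_singleton_iff.2 ?_
    calc p * x * p⁻¹ * v = p * (x * (p⁻¹ * v * p)) * p⁻¹ := by group
      _ = p * ((p⁻¹ * v * p) * x) * p⁻¹ := by
        rw [e2, ← mul_assoc x, c.zp_cen (hv _) x, mul_assoc _ x, e1, ← mul_assoc (cm p⁻¹ v)]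
      _ = _ := by group⟩⟩
  have hU : ∀ x ∈ U, x * v = v * x → x ∈ zpowers z := fun x hx e => by_contra fun f =>
    hK ((c.memK hx f).2 e.symm)
  obtain ⟨r, hr, r1, r2⟩ := exists_om c.two (𝐊 ⊓ centralizer {v}) (zpowers z) fun e => by
    obtain ⟨w, w1, w2, -⟩ := c.invK
    have w3 : cm v w ∈ zpowers z := by rw [cm_swap]; exact inv_mem (hv w)
    rcases c.zp.1 w3 with f | f
    · exact w2 (c.zp_le (e ⟨w1, mem_centralizer_singleton_iff.2 (cm_one_iff.1 f).symm⟩))
    · refine w2 ((mul_mem_cancel_left hu).1 (c.zp_le (e ⟨mul_mem (c.le_K hu) w1,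
        mem_centralizer_singleton_iff.2 (cm_one_iff.1 ?_).symm⟩)))
      rw [c.cm_mul w3, vu, f, c.zz]
  have r3 : ∀ s, cm s r ∈ zpowers z := fun s => by rw [cm_swap]; exact inv_mem (r2.2.2 s trivial)
  have rv := mem_centralizer_singleton_iff.1 hr.2
  have r4 : r ^ 2 = z := (c.zp.1 r2.2.1).resolve_left fun e => r1 (hU r (k e hr.1 r3) rv)
  have ru : Commute u r := hr.1 u hu
  obtain ⟨D, q⟩ := exists_nq8 (x := v * r) (y := u * r) c.z1 c.zz c.zc
    (by rw [Commute.mul_pow rv.symm, v2, r4, one_mul]) (by rw [ru.mul_pow, c.sq u hu, r4, one_mul])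
    (by rw [← vu]
        calc cm (v * r) (u * r) = v * (r * u) * (r * r⁻¹) * (v⁻¹ * r⁻¹) * u⁻¹ := by unfold cm; group
          _ = v * u * (r * (r * v)⁻¹) * u⁻¹ := by rw [← ru.eq]; group
          _ = _ := by rw [rv]; unfold cm; group)
    (fun s => by rw [c.cm_mul (r3 s)]; exact mul_mem (hv s) (r3 s))
    (fun s => by rw [c.cm_mul (r3 s)]; exact mul_mem (c.cmU hu s) (r3 s))
  exact c.nq8_false c.no q

end Pz

end Cfsg.Agent.NE8
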