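import Mathlib
import Cfsg.Agent.NE8.Basic
import Cfsg.Agent.NR2.CtxA
import Cfsg.Agent.Grp.Card

set_option autoImplicit false
set_option linter.unusedSectionVars false

/-! Two commuting conjugates of the normal four-group. -/

namespace Cfsg.Agent.NE8
open Cfsg Subgroup MacW PLocal.Amb NR2
open scoped commutatorElement

variable {P G : Type*} [Group P] [Group G]

/-- the conjugate of `U` under `g` centralizes `U` and meets it trivially -/
structure Good (ι : P →* G) (U : Subgroup P) (g : G) : Prop where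
  ex : ∀ u ∈ U, ∃ v ∈ centralizer (U : Set P), Cj ι g u v
  dis : ∀ u ∈ U, ∀ v ∈ U, Cj ι g u v → u = 1
  cen : ∀ k ∈ centralizer (U : Set P), ∀ u ∈ U, ∀ v, Cj ι g u v → u ≠ 1 → k * v = v * k →
    ∀ u' ∈ U, ∀ v', Cj ι g u' v' → k * v' = v' * k

section pre
variable [Finite G] {ι : P →* G} {S : Sylow 2 G} {U : Subgroup P} (c : Pre ι S U)
include c

local notation "𝐊" => centralizer (U : Set P)

theorem card_sup {V : Subgroup P} (h4 : Nat.card V = 4) (hd : ∀ v ∈ V, v ∈ U → v = 1) :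
    Nat.card (U ⊔ V : Subgroup P) = 16 := by
  have := c.finite
  have := c.normal
  have h := Grp.card_sup_mul_card_inf V U
  rw [show V ⊓ U = ⊥ from eq_bot_iff.2 fun x hx => hd x hx.1 hx.2, card_bot, h4, c.card, sup_comm] at h
  omega

theorem mem_supU {V : Subgroup P} {x : P} : x ∈ U ⊔ V ↔ ∃ a ∈ U, ∃ b ∈ V, x = a * b :=
  have := c.normal
  mem_sup_of_le_normalizer_left le_normalizer_of_normal

theorem sq_sup {V : Subgroup P} (h2 : ∀ v ∈ V, v ^ 2 = 1) (hK : V ≤ 𝐊) {x : P} (hx : x ∈ U ⊔ V) :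
    x ^ 2 = 1 := by
  obtain ⟨a, ha, b, hb, rfl⟩ := (mem_supU c).1 hx
  rw [Commute.mul_pow (hK hb a ha), c.sq a ha, h2 b hb, one_mul]

theorem mem_sixteen {A : Subgroup P} (h : Nat.card A = 16) (h2 : ∀ a ∈ A, a ^ 2 = 1) {x : P}
    (x2 : x ^ 2 = 1) (hx : ∀ a ∈ A, x * a = a * x) : x ∈ A := by
  have := c.finite
  by_contra n
  have hn : x ∈ 𝐍[A] := centralizer_le_normalizer' A fun a ha => (hx a ha).symm
  have h1 : x ^ 2 ∈ A := x2 ▸ one_mem A
  have := card_le_sixteen c.two c.no (E := adj A x hn h1) fun y hy => by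
    rcases mem_adj.1 hy with e | e
    · exact h2 y e
    · have e1 : y = y * x * x⁻¹ := by group
      rw [e1, Commute.mul_pow (Commute.inv_right (hx _ e).symm), h2 _ e, inv_pow, x2]; simp
  rw [card_adj n] at this
  omega

theorem step4 {V : Subgroup P} (h4 : Nat.card V = 4) (h2 : ∀ v ∈ V, v ^ 2 = 1) (hK : V ≤ 𝐊)
    (hd : ∀ v ∈ V, v ∈ U → v = 1)
    (hc : ∀ k ∈ 𝐊, ∀ v ∈ V, v ≠ 1 → k * v = v * k → ∀ v' ∈ V, k * v' = v' * k)
    {v u : P} (hv : v ∈ V) (v1 : v ≠ 1) (hu : u ∈ U) : ∃ p, p * v * p⁻¹ = u * v := by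
  have := c.finite
  have := c.normal
  have cA := card_sup c h4 hd
  have sA : ∀ x ∈ U ⊔ V, x ^ 2 = 1 := fun x => sq_sup c h2 hK
  obtain ⟨y, y1, y2⟩ := exists_norm_norm c.two (Y := 𝐍[U ⊔ V]) fun e => by
    have := card_le_four c.no (normalizer_eq_top_iff.1 e) sA
    omega
  have hB : cj(y, U ⊔ V) ≤ 𝐍[U ⊔ V] := cj_le_of_mem_normalizer le_normalizer y1
  have hA : U ⊔ V ≤ 𝐍[cj(y, U ⊔ V)] := by
    rw [normalizer_cj, cj_of_mem_normalizer y1]; exact le_normalizer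
  have sB : ∀ x ∈ cj(y, U ⊔ V), x ^ 2 = 1 := fun x hx => by
    obtain ⟨a, ha, rfl⟩ := mem_cj_iff_exists.1 hx
    rw [conj_pow, sA a ha]; simp
  have UB : U ≤ cj(y, U ⊔ V) := (cj_of_normal y U).ge.trans (cj_mono y le_sup_left)
  have BK : cj(y, U ⊔ V) ≤ 𝐊 := fun b hb a ha => comm_of_sq sB (UB ha) hb
  have k1 : ∀ b ∈ cj(y, U ⊔ V), (∀ v' ∈ V, b * v' = v' * b) → b ∈ U ⊔ V := fun b hb h =>
    mem_sixteen c cA sA (sB b hb) fun a ha => by
      obtain ⟨a1, h1, a', ha', rfl⟩ := (mem_supU c).1 ha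
      exact (Commute.mul_right (Pre.cenK h1 (BK hb)) (h a' ha')).eq
  obtain ⟨b, hb, nb⟩ : ∃ b ∈ cj(y, U ⊔ V), b ∉ U ⊔ V := by
    by_contra n
    push Not at n
    exact y2 (mem_normalizer_of_cj_le n)
  have k2 : ∀ a ∈ U ⊔ V, a ∈ cj(y, U ⊔ V) → a ∈ U := fun a ha ha' => by
    obtain ⟨a, h1, a', h3, rfl⟩ := (mem_supU c).1 ha
    by_cases e : a' = 1
    · simpa [e] using h1
    exact absurd (k1 b hb (hc b (BK hb) a' h3 e
      (comm_of_sq sB hb ((mul_mem_cancel_left (UB h1)).1 ha')))) nb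
  have k3 : ∀ a ∈ cj(y, U ⊔ V), cm a v ∈ U := fun a ha => k2 _
    (mul_mem (conj_mem_of_mem_normalizer (hB ha) (mem_sup_right hv)) (inv_mem (mem_sup_right hv))) (by
      rw [cm_swap]
      exact inv_mem (mul_mem (conj_mem_of_mem_normalizer (hA (mem_sup_right hv)) ha) (inv_mem ha)))
  have k4 : ∀ a ∈ cj(y, U ⊔ V), cm a v = 1 → a ∈ U := fun a ha e =>
    k2 a (k1 a ha (hc a (BK ha) v hv v1 (cm_one_iff.1 e))) ha
  have k5 : ∀ a, ∀ a' ∈ cj(y, U ⊔ V), a ∈ 𝐊 → cm (a * a') v = cm a' v * cm a v := fun a a' ha' ha =>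
    cm_mul_left' (Pre.cenK (k3 a' ha') ha)
  have nU : b ∉ U := fun e => nb (mem_sup_left e)
  have n1 : b ∈ 𝐍[U] := le_normalizer_of_normal (mem_top b)
  have s1 : b ^ 2 ∈ U := sB b hb ▸ one_mem U
  obtain ⟨d, hd', nd⟩ := Misc.exists_mem_not_mem_of_card_lt (A := adj U b n1 s1) (B := cj(y, U ⊔ V))
    (by rw [card_adj nU, card_cj, cA, c.card]; omega)
  have fin : ∀ a, cm a v = u → ∃ p, p * v * p⁻¹ = u * v := fun a e => ⟨a, by rw [← e]; unfold cm; group⟩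
  rcases c.four (k3 b hb) (k3 d hd') (fun e => nU (k4 b hb e))
    (fun e => nd (le_adj (k4 d hd' e))) (fun e => nd (mem_adj.2 (Or.inr (k4 _ (mul_mem hd' hb) (by
      rw [k5 d b hb (BK hd'), e, c.uu (k3 b hb)]))))) hu with e | e | e | e
  · exact ⟨1, by simp [e]⟩
  · exact fin b e.symm
  · exact fin d e.symm
  · exact fin (d * b) (by rw [k5 d b hb (BK hd'), e])

theorem card_img {g : G} (h : ∀ u ∈ U, ∃ v, Cj ι g u v) : Nat.card (img ι g U) = 4 := by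
  have := c.finite
  rw [← c.card]
  exact le_antisymm (card_le_cj c.inj (g := g⁻¹) fun x hx => (mem_img.1 hx).imp fun _ e => ⟨e.1, e.2.symm⟩)
    (card_le_cj c.inj fun x hx => (h x hx).imp fun y e => ⟨mem_img.2 ⟨x, hx, e⟩, e⟩)

theorem sq_img {g : G} {v : P} (hv : v ∈ img ι g U) : v ^ 2 = 1 := by
  obtain ⟨u, hu, e⟩ := mem_img.1 hv
  exact ((e.pow 2).one_iff c.inj).1 (c.sq u hu)

theorem Good.conj {g : G} (h : Good ι U g) {u v u' : P} (hu : u ∈ U) (e : Cj ι g u v) (u1 : u ≠ 1)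
    (hu' : u' ∈ U) : IsConj (ι v) (ι (u' * v)) := by
  obtain ⟨p, hp⟩ := step4 c (V := img ι g U) (card_img c fun u hu => (h.ex u hu).imp fun _ e => e.2)
    (fun v => sq_img c) (fun v hv => by
      obtain ⟨u, hu, e⟩ := mem_img.1 hv
      obtain ⟨v', h1, h2⟩ := h.ex u hu
      rwa [(e.eq_iff c.inj h2).1 rfl]) (fun v hv hv' => by
      obtain ⟨u, hu, e⟩ := mem_img.1 hv
      exact (e.one_iff c.inj).1 (h.dis u hu v hv' e)) (fun k hk v hv v1 e v' hv' => by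
      obtain ⟨u, hu, e1⟩ := mem_img.1 hv
      obtain ⟨u', hu', e2⟩ := mem_img.1 hv'
      exact h.cen k hk u hu v e1 (fun f => v1 ((e1.one_iff c.inj).1 f)) e u' hu' v' e2)
    (mem_img.2 ⟨u, hu, e⟩) (fun f => u1 ((e.one_iff c.inj).2 f)) hu'
  exact isConj_of ι p hp

theorem fused_of_good {g : G} (h : Good ι U g) (h' : Good ι U g⁻¹) {u u' : P} (hu : u ∈ U)
    (hu' : u' ∈ U) (u1 : u ≠ 1) (u2 : u' ≠ 1) : IsConj (ι u) (ι u') := by
  obtain ⟨v, hv, e⟩ := h.ex u hu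
  obtain ⟨v', -, e'⟩ := h'.ex u' hu'
  have h1 := h.conj c hu e u1 hu'
  have h2 := h'.conj c hu' e' u2 hu
  have h3 : Cj ι g (u * v') (v * u') := e.mul (by simpa using e'.symm)
  rw [Pre.cenK hu' hv] at h3
  exact (e.isConj.trans h1).trans (h3.isConj.symm.trans (h2.symm.trans e'.isConj.symm))

/-- maximality of a centralizer gives surjectivity -/
theorem onto {g : G} {t t' : P} (h : ∀ x, x * t = t * x → ∃ y, y * t' = t' * y ∧ Cj ι g x y)
    (hc : Nat.card (centralizer ({t'} : Set P)) ≤ Nat.card (centralizer ({t} : Set P))) {y : P}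
    (hy : y * t' = t' * y) : ∃ x, x * t = t * x ∧ Cj ι g x y := by
  have := c.finite
  have h1 : img ι g (centralizer {t}) ≤ centralizer {t'} := fun y hy => by
    obtain ⟨x, hx, e⟩ := mem_img.1 hy
    obtain ⟨y', h1, h2⟩ := h x (mem_centralizer_singleton_iff.1 hx)
    exact mem_centralizer_singleton_iff.2 ((e.eq_iff c.inj h2).1 rfl ▸ h1)
  have h2 := card_le_cj c.inj (g := g) (H := centralizer {t}) (L := img ι g (centralizer {t}))
    fun x hx => (h x (mem_centralizer_singleton_iff.1 hx)).imp fun y e => ⟨mem_img.2 ⟨x, hx, e.2⟩, e.2⟩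
  obtain ⟨x, hx, e⟩ := mem_img.1 ((eq_of_le_card h1 (hc.trans h2)).ge
    (mem_centralizer_singleton_iff.2 hy))
  exact ⟨x, mem_centralizer_singleton_iff.1 hx, e⟩

theorem card_cen_le {g : G} {t t' : P} (h : ∀ x, x * t = t * x → ∃ y, y * t' = t' * y ∧ Cj ι g x y) :
    Nat.card (centralizer ({t} : Set P)) ≤ Nat.card (centralizer ({t'} : Set P)) :=
  have := c.finite
  card_le_cj c.inj (g := g) fun x hx => (h x (mem_centralizer_singleton_iff.1 hx)).imp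
    fun _ e => ⟨mem_centralizer_singleton_iff.2 e.1, e.2⟩

/-- the case of a central four-group -/
theorem central_false (hK : ∀ u ∈ U, ∀ x, x * u = u * x)
    (nf : ∀ u ∈ U, ∀ v ∈ U, IsConj (ι u) (ι v) → u = v)
    (hl : ∀ u ∈ U, u ≠ 1 → ∃ Q N, Lc ι u Q N) : False := by
  have := c.finite
  have iso : ∀ u ∈ U, u ≠ 1 → ∀ g, Cj ι g u u → ∀ v ∈ U, ∀ t, Cj ι g v t → t ∈ U :=
    fun u hu u1 g e v hv t e' => by
    obtain ⟨Q, N, l⟩ := hl u hu u1
    have hv' := l.self (hK u hu v) fun q _ => hK v hv q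
    refine mem_of_set c (D := {a | ∃ n ∈ N, Cj ι n v a}) ?_ ?_ (fun d _ w hw => (hK w hw d).symm) ?_
      (l.ctl g e v hv' t e')
    · rintro d ⟨n, -, h⟩; exact ((h.pow 2).one_iff c.inj).1 (c.sq v hv)
    · rintro d ⟨n, hn, h⟩ d' ⟨n', hn', h'⟩
      exact (l.cen_cj c.inj hn' h' hv' fun q _ => hK v hv q).2 d
        (l.cen_cj c.inj hn h hv' fun q _ => hK v hv q).1
    · rintro d ⟨n, hn, h⟩ p
      exact ⟨_, mul_mem (l.mem (hK u hu p)) hn, h.trans (Cj.of p d)⟩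
  obtain ⟨z, d⟩ := exists_pz c
  obtain ⟨t0, h1, h2⟩ := c.zstar d.z1 d.zz
  obtain ⟨t, ⟨ht, w, hw, e⟩, hm⟩ := Set.exists_max_image {t | t ∉ U ∧ ∃ u ∈ U, IsConj (ι t) (ι u)}
    (fun t => Nat.card (centralizer ({t} : Set P))) (Set.toFinite _)
    ⟨t0, fun e => h1 (nf _ e _ d.hz h2), z, d.hz, h2⟩
  have key : ∀ t g w, t ∉ U → w ∈ U → Cj ι g t w → (∀ x, x * t = t * x → ∃ y, Cj ι g x y) →
      (∀ a, (a ∉ U ∧ ∃ u ∈ U, IsConj (ι a) (ι u)) →
        Nat.card (centralizer ({a} : Set P)) ≤ Nat.card (centralizer ({t} : Set P))) →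
      Good ι U g ∧ ∀ u ∈ U, u ≠ 1 → ∀ v, Cj ι g u v → v ∉ U ∧
        Nat.card (centralizer ({t} : Set P)) ≤ Nat.card (centralizer ({v} : Set P)) ∧
        ∀ y, y * v = v * y → ∃ x, Cj ι g x y := fun t g w ht hw e h hm => by
    have dis : ∀ u ∈ U, ∀ v ∈ U, Cj ι g u v → u = 1 := fun u hu v hv f => by_contra fun u1 => by
      obtain rfl := nf u hu v hv f.isConj
      exact ht (iso u hu u1 _ f.symm w hw t e.symm)
    have k : ∀ u ∈ U, u ≠ 1 → ∀ v, Cj ι g u v → v ∉ U ∧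
        Nat.card (centralizer ({t} : Set P)) ≤ Nat.card (centralizer ({v} : Set P)) ∧
        ∀ y, y * v = v * y → ∃ x, Cj ι g x y := fun u hu u1 v f => by
      have nv : v ∉ U := fun hv => u1 (dis u hu v hv f)
      have h' : ∀ x, x * t = t * x → ∃ y, y * v = v * y ∧ Cj ι g x y := fun x hx =>
        (h x hx).imp fun y e => ⟨(e.comm c.inj f).1 (hK u hu x), e⟩
      exact ⟨nv, card_cen_le c h', fun y hy =>
        (onto c h' (hm v ⟨nv, u, hu, f.isConj.symm⟩) hy).imp fun _ e => e.2⟩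
    refine ⟨⟨fun u hu => (h u (hK u hu t).symm).imp fun v e => ⟨fun a ha => (hK a ha v).symm, e⟩, dis,
      fun y _ u hu v f u1 hy u' hu' v' f' => ?_⟩, k⟩
    obtain ⟨x, e'⟩ := (k u hu u1 v f).2.2 y hy
    exact (e'.comm c.inj f').1 (hK u' hu' x)
  obtain ⟨g, e1, e2⟩ := c.ext' (hK w hw) e
  obtain ⟨g1, g2⟩ := key t g w ht hw e1 e2 hm
  obtain ⟨v, -, f⟩ := g1.ex z d.hz
  obtain ⟨k1, k2, k3⟩ := g2 z d.hz d.z1 v f
  obtain ⟨u, hu, u1⟩ := d.exists_u
  exact u1 (d.zp.2 (Or.inr (nf u hu z d.hz (fused_of_good c g1 (key v g⁻¹ z k1 d.hz f.symm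
    (fun y hy => (k3 y hy).imp fun _ e => e.symm) fun a ha => (hm a ha).trans k2).1 hu d.hz
    (fun e => u1 (d.zp.2 (Or.inl e))) d.z1))))

end pre

end Cfsg.Agent.NE8
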