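import Mathlib
import Cfsg.Agent.NE8.TI

set_option autoImplicit false
set_option linter.unusedSectionVars false

/-! The case of a noncentral normal four-group whose involutions are not fused: basic facts. -/

namespace Cfsg.Agent.NE8
open Cfsg Subgroup MacW PLocal.Amb NR2
open scoped commutatorElement

variable {P G : Type*} [Group P] [Group G]

/-- `U = ⟨z, u⟩` is not central, and `u` is not fused to `z` -/
structure Nf (ι : P →* G) (S : Sylow 2 G) (U : Subgroup P) (z u s : P) : Prop extends Pz ι S U z where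
  hu : u ∈ U
  u1 : u ∉ zpowers z
  hs : s ∉ centralizer (U : Set P)
  nf : ¬ IsConj (ι u) (ι z)

namespace Nf
variable [Finite G] {ι : P →* G} {S : Sylow 2 G} {U : Subgroup P} {z u s : P} (c : Nf ι S U z u s)
include c

local notation "𝐊" => centralizer (U : Set P)

theorem su : s * u * s⁻¹ = z * u := c.conj_u c.hu c.u1 c.hs

theorem mK {x : P} : x ∈ 𝐊 ↔ x * u = u * x := c.memK c.hu c.u1

/-- an element of `U ∖ ⟨z⟩` is conjugate to `u` -/
theorem to_u {v : P} (hv : v ∈ U) (v1 : v ∉ zpowers z) : ∃ p, p * v * p⁻¹ = u := by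
  rcases c.four' c.hu c.u1 hv with e | e | e | e
  · exact absurd (c.zp.2 (Or.inl e)) v1
  · exact absurd (c.zp.2 (Or.inr e)) v1
  · exact ⟨1, by simp [e]⟩
  · exact ⟨s⁻¹, by rw [e, ← c.su]; group⟩

theorem eq_z {v : P} (hv : v ∈ U) (h : IsConj (ι v) (ι z)) : v = z := by
  by_cases v1 : v ∈ zpowers z
  · exact (c.zp.1 v1).resolve_left (c.ne_of_conj h.symm c.z1)
  obtain ⟨p, e⟩ := c.to_u hv v1
  exact absurd ((isConj_of ι p e).symm.trans h) c.nf

theorem cenZ {w : P} (h2 : w ^ 2 = 1) (h : ∀ x, x * w = w * x) : w ∈ zpowers z :=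
  by_contra fun n => c.hs ((c.memK (cen_mem c.toPre h2 h) n).2 (h s))

theorem ncen {g : G} {v : P} (e : Cj ι g u v) : ∃ x, x * v ≠ v * x := by
  by_contra n
  push Not at n
  rcases c.zp.1 (c.cenZ (((e.pow 2).one_iff c.inj).1 (c.sq u c.hu)) n) with f | f
  · exact c.u1 (c.zp.2 (Or.inl ((e.one_iff c.inj).2 f)))
  · exact c.nf (f ▸ e.isConj)

theorem cardK : Nat.card P ≤ 2 * Nat.card 𝐊 :=
  have := c.finite
  card_top (G := P) ▸ card_le_of_idx (R := 𝐊) (W := ⊤) le_top fun x _ y _ => c.idxK x y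

theorem cen_u : centralizer ({u} : Set P) = 𝐊 :=
  Subgroup.ext fun _ => mem_centralizer_singleton_iff.trans c.mK.symm

theorem syl : IsSyl 2 ((centralizer ({u} : Set P)).map ι) (centralizer ({ι u} : Set G)) := by
  have : Fact (Nat.Prime 2) := ⟨Nat.prime_two⟩
  have := c.finite
  have hle : (centralizer ({u} : Set P)).map ι ≤ centralizer ({ι u} : Set G) := by
    rintro _ ⟨x, hx, rfl⟩
    rw [mem_centralizer_singleton_iff, ← map_mul, mem_centralizer_singleton_iff.1 hx, map_mul]
  obtain ⟨T, hT, h⟩ := exists_isSyl_ge (c.pmap _) hle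
  refine hT.of_card_ge (c.pmap _) hle (by_contra fun n => ?_)
  obtain ⟨k, hk⟩ := c.into hT.pgrp
  obtain ⟨v, hv⟩ := hk _ (h ⟨u, mem_centralizer_singleton_iff.2 rfl, rfl⟩)
  obtain ⟨x, hx⟩ := c.ncen (g := k) hv
  obtain ⟨t, t1, t2⟩ := Misc.exists_mem_not_mem_of_card_lt (not_le.1 n)
  have h1 := two_mul_le h t1 t2
  have h2 := two_mul_le (A := centralizer {v}) (B := ⊤) le_top trivial
    (mt mem_centralizer_singleton_iff.1 hx)
  have h3 : cj(k, T) ≤ (centralizer {v}).map ι := cj_le_iff_forall.2 fun q hq => by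
    obtain ⟨y, hy⟩ := hk q hq
    refine ⟨y, mem_centralizer_singleton_iff.2 (c.inj ?_), hy⟩
    have := mem_centralizer_singleton_iff.1 (hT.le hq)
    calc ι (y * v) = k * (q * ι u) * k⁻¹ := by rw [map_mul, hy, hv]; group
      _ = _ := by rw [map_mul, hy, hv, this]; group
  have h4 := card_le_of_le h3
  have h5 := c.cardK
  have h6 := Nat.card_pos (α := 𝐊)
  rw [card_cj, card_map_of_injective c.inj] at h4
  rw [card_map_of_injective c.inj, c.cen_u] at h1
  rw [card_top] at h2
  omega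

/-- `u` lies in the Frattini subgroup -/
theorem frat {N : Subgroup P} (h : ∀ x, x ^ 2 ∈ N) : u ∈ N := by
  have := c.finite
  by_contra n
  obtain ⟨H, h1, -, h2, h3⟩ := exists_hyp (D := ⊤) le_top (fun x _ => h x) n
  obtain ⟨g, v, hv, e, h4⟩ := thompson_ext c.toFz (fun x y => h3 x trivial y trivial) h2 (c.sq u c.hu)
  have v2 := ((e.pow 2).one_iff c.inj).1 (c.sq u c.hu)
  have h5 := card_cen_le c.toPre fun x hx => (h4 x hx).imp fun y f => ⟨(f.comm c.inj e).1 hx, f⟩
  have h6 := c.cardK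
  obtain ⟨x, hx⟩ := c.ncen e
  have h7 := two_mul_le (A := centralizer {v}) (B := ⊤) le_top trivial
    (mt mem_centralizer_singleton_iff.1 hx)
  have h8 := (centralizer ({v} : Set P)).index_mul_card
  have h9 := Nat.card_pos (α := centralizer ({v} : Set P))
  rw [c.cen_u] at h5
  rw [card_top] at h7
  have hi : (centralizer ({v} : Set P)).index = 2 := by nlinarith
  have hn := normal_of_index_eq_two hi
  have vi : v⁻¹ = v := by rw [inv_eq_iff_mul_eq_one, ← pow_two, v2]
  have hU : v ∈ U := c.mem_U' v2 fun p => by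
    by_cases hp : p ∈ centralizer ({v} : Set P)
    · rw [cm_one_iff.2 (mem_centralizer_singleton_iff.1 hp)]; exact one_mem _
    have k0 : ∀ q ∈ centralizer ({v} : Set P), Commute q (p * v * p⁻¹) := fun q hq => by
      have e2 := mem_centralizer_singleton_iff.1 (hn.conj_mem q hq p⁻¹)
      calc q * (p * v * p⁻¹) = p * (p⁻¹ * q * p⁻¹⁻¹ * v) * p⁻¹ := by group
        _ = _ := by rw [e2]; group
    have k1 : ∀ q ∈ centralizer ({v} : Set P), Commute q (p * v * p⁻¹ * v) := fun q hq =>
      (k0 q hq).mul_right (mem_centralizer_singleton_iff.1 hq)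
    have e3 := k0 v (mem_centralizer_singleton_iff.2 rfl)
    have e4 : Commute p (p * v * p⁻¹ * v) := by
      calc p * (p * v * p⁻¹ * v) = (p ^ 2 * v) * p⁻¹ * v := by rw [pow_two]; group
        _ = v * (p * v * p⁻¹) * p := by
          rw [mem_centralizer_singleton_iff.1 (sq_mem_of_index_two hi p), pow_two]; group
        _ = _ := by rw [e3.eq]
    rw [cm, vi]
    refine c.cenZ (by rw [e3.symm.mul_pow, conj_pow, v2]; simp) fun q => ?_
    by_cases hq : q ∈ centralizer ({v} : Set P)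
    · exact k1 q hq
    simpa using (e4.mul_left (k1 _ ((mul_mem_iff_of_index_two hi).2
      (iff_of_false (mt (inv_mem_iff (x := p)).1 hp) hq)))).eq
  have hz : z ∈ H := c.cm_eq_z c.hu c.u1 c.hs ▸ h1 (cm_mem_of_sq (K := ⊤) (fun x _ => h x) trivial trivial)
  rcases c.four' c.hu c.u1 hU with f | f | f | f
  · exact hx (by simp [f])
  · exact hx (f ▸ c.zc x)
  · exact h2 (f ▸ hv)
  · exact h2 ((mul_mem_cancel_left hz).1 (f ▸ hv))

end Nf

end Cfsg.Agent.NE8
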