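import Mathlib
import Cfsg.Agent.NE8.NF1

set_option autoImplicit false
set_option linter.unusedSectionVars false

/-! The non-fused case when `z` is weakly closed in `C_P(u)` with respect to `C(u)`. -/

namespace Cfsg.Agent.NE8
open Cfsg Subgroup MacW PLocal.Amb NR2
open scoped commutatorElement

variable {P G : Type*} [Group P] [Group G]

/-- an extremal conjugate `t ≠ z` of `z` with maximal centralizer -/
structure Pr (ι : P →* G) (z : P) (g : G) (t : P) : Prop where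
  ne : t ≠ z
  cj : Cj ι g t z
  ex : ∀ x, x * t = t * x → ∃ y, Cj ι g x y
  mx : ∀ a, a ≠ z → IsConj (ι a) (ι z) →
    Nat.card (centralizer ({a} : Set P)) ≤ Nat.card (centralizer ({t} : Set P))

namespace Nf
variable [Finite G] {ι : P →* G} {S : Sylow 2 G} {U : Subgroup P} {z u s : P} (c : Nf ι S U z u s)
include c

local notation "𝐊" => centralizer (U : Set P)

theorem exists_pr {t : P} (h1 : t ≠ z) (h2 : IsConj (ι t) (ι z)) (h3 : ∀ a, a ≠ z → IsConj (ι a) (ι z) →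
    Nat.card (centralizer ({a} : Set P)) ≤ Nat.card (centralizer ({t} : Set P))) : ∃ g, Pr ι z g t :=
  (c.ext' c.zc h2).imp fun _ h => ⟨h1, h.1, h.2, h3⟩

/-- conjugates of central elements of the centralizer are again extremal -/
theorem pr_cen {g : G} {t a b : P} (p : Pr ι z g t) (e : Cj ι g a b) (ha : ∀ x, x * t = t * x → x * a = a * x)
    (h1 : a ≠ t) (h2 : IsConj (ι a) (ι z)) :
    b ≠ z ∧ (∀ y, y * b = b * y → ∃ x, x * t = t * x ∧ Cj ι g x y) ∧ ∀ d, d ≠ z → IsConj (ι d) (ι z) →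
      Nat.card (centralizer ({d} : Set P)) ≤ Nat.card (centralizer ({b} : Set P)) := by
  have n : b ≠ z := fun f => h1 ((e.eq_iff c.inj p.cj).2 f)
  have h : ∀ x, x * t = t * x → ∃ y, y * b = b * y ∧ Cj ι g x y := fun x hx =>
    (p.ex x hx).imp fun y f => ⟨(f.comm c.inj e).1 (ha x hx), f⟩
  exact ⟨n, fun y hy => onto c.toPre h (p.mx b n (e.isConj.symm.trans h2)) hy,
    fun d d1 d2 => (p.mx d d1 d2).trans (card_cen_le c.toPre h)⟩

theorem flip {g : G} {t : P} (p : Pr ι z g t) : ∃ t', Cj ι g z t' ∧ Pr ι z g⁻¹ t' := by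
  obtain ⟨t', e⟩ := p.ex z (c.zc t).symm
  obtain ⟨h1, h2, h3⟩ := c.pr_cen p e (fun x _ => c.zc x) p.ne.symm (IsConj.refl _)
  exact ⟨t', e, h1, e.symm, fun y hy => (h2 y hy).imp fun _ f => f.2.symm, h3⟩

theorem pr_K : ∃ g, ∃ t ∈ 𝐊, Pr ι z g t := by
  have := c.finite
  have := c.zp_normal
  obtain ⟨t0, h1, h2⟩ := c.zstar c.z1 c.zz
  obtain ⟨t, ⟨t1, t2⟩, hm⟩ := Set.exists_max_image {t | t ≠ z ∧ IsConj (ι t) (ι z)}
    (fun t => Nat.card (centralizer ({t} : Set P))) (Set.toFinite _) ⟨t0, h1, h2⟩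
  obtain ⟨g, p⟩ := c.exists_pr t1 t2 fun a a1 a2 => hm a ⟨a1, a2⟩
  obtain ⟨t', e, p'⟩ := c.flip p
  by_contra n
  have nt : t ∉ 𝐊 := fun h => n ⟨g, t, h, p⟩
  have nt' : t' ∉ 𝐊 := fun h => n ⟨_, t', h, p'⟩
  have tt : t ^ 2 = 1 := c.sq_of_conj t2.symm (c.sq z c.hz)
  let R := cen ⊤ (zpowers z) {t} fun s _ n hn => c.zp_normal.conj_mem n hn s
  have mR : ∀ {x}, x ∈ R ↔ cm x t ∈ zpowers z := by simp [R, mem_cen]
  obtain ⟨y, y1, y2⟩ := exists_norm_norm c.two (Y := R) fun f => nt (c.le_K (c.mem_U' tt fun x =>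
    mR.1 (f.ge trivial)))
  have a1 : cm (y * t * y⁻¹) t ∈ zpowers z :=
    mR.1 (conj_mem_of_mem_normalizer y1 (mR.2 (by simp [cm])))
  have a2 : ∀ x, x * t = t * x → cm x (y * t * y⁻¹) ∈ zpowers z := fun x hx => by
    have := c.zp_normal.conj_mem _ (mR.1 (inv_conj_mem_of_mem_normalizer y1
      (mR.2 (by rw [cm_one_iff.2 hx]; exact one_mem _)))) y
    convert this using 1
    unfold cm; group
  have a3 : y * t * y⁻¹ ∉ 𝐊 := fun h => nt (by simpa [mul_assoc] using c.K_normal.conj_mem _ h y⁻¹)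
  have a4 : (y * t * y⁻¹) ^ 2 = 1 := by rw [conj_pow, tt]; simp
  have a7 : cm y t = y * t * y⁻¹ * t := by
    rw [cm, inv_eq_of_mul_eq_one_left (show t * t = 1 from pow_two t ▸ tt)]
  have a8 : IsConj (ι (y * t * y⁻¹)) (ι z) := (isConj_of ι y rfl).symm.trans t2
  generalize y * t * y⁻¹ = a at a1 a2 a3 a4 a7 a8
  have ua : cm u a = z := by rw [cm_swap, c.cm_eq_z c.hu c.u1 a3, inv_eq_of_mul_eq_one_left c.zz]
  have a5 : a * t = t * a := cm_one_iff.1 ((c.zp.1 a1).resolve_right fun f => by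
    obtain ⟨w, hw⟩ := p.ex (u * a) (cm_one_iff.1 (by
      rw [cm_mul_left' (c.zp_cen a1 u), f, cm_swap, c.cm_eq_z c.hu c.u1 nt, mul_inv_cancel]))
    refine nt' ((e.eq_iff c.inj (hw.pow 2)).1 ?_ ▸ sqK c.toPre w)
    rw [sq_mul_of_inv (c.uu c.hu) (pow_two a ▸ a4), ua])
  obtain ⟨b, hb⟩ := p.ex a a5
  have a6 : ∀ x, x * t = t * x → x * a = a * x := fun x hx =>
    cm_one_iff.1 ((c.zp.1 (a2 x hx)).resolve_right fun f => by
      obtain ⟨w, hw⟩ := p.ex x hx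
      exact nt' ((e.eq_iff c.inj (hw.cm hb)).1 f.symm ▸ cmK c.toPre w b))
  have fin : ∀ a' b', Cj ι g a' b' → (∀ x, x * t = t * x → x * a' = a' * x) → a' ≠ t →
      IsConj (ι a') (ι z) → b' ∉ 𝐊 := fun a' b' f h1 h2 h3 h => by
    obtain ⟨k1, -, k3⟩ := c.pr_cen p f h1 h2 h3
    obtain ⟨g', p''⟩ := c.exists_pr k1 (f.isConj.symm.trans h3) k3
    exact n ⟨g', b', h, p''⟩
  refine fin (z * a) (t' * b) (e.mul hb) (fun x hx => by rw [← mul_assoc, c.zc, mul_assoc, a6 x hx, mul_assoc])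
    (fun f => y2 (mR.2 (c.zp.2 (Or.inr ?_)))) ((isConj_of ι u ?_).symm.trans a8) ?_
  · rw [a7, ← f, ← mul_assoc, c.zc, mul_assoc, ← pow_two, a4, mul_one]
  · rw [← ua]; unfold cm; group
  · simpa using c.idxK t'⁻¹ b (by rwa [inv_mem_iff]) (fin a b hb a6
      (fun f => y2 (mR.2 (c.zp.2 (Or.inl (by rw [a7, f, ← pow_two, tt]))))) a8)

variable (wc : ∀ g y, Cj ι g u u → Cj ι g z y → y = z)
include wc

theorem uniq {g h : G} {v t t' a b : P} (ha : a ∈ U) (a1 : a ∉ zpowers z) (hb : b ∈ U)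
    (b1 : b ∉ zpowers z) (e1 : Cj ι g v a) (e2 : Cj ι g t z) (e3 : Cj ι h v b) (e4 : Cj ι h t' z) :
    t = t' := by
  have : Fact (Nat.Prime 2) := ⟨Nat.prime_two⟩
  obtain ⟨p, hp⟩ := c.to_u ha a1
  obtain ⟨q, hq⟩ := c.to_u hb b1
  have f1 := e1.trans (Cj.of p a)
  have f2 := e2.trans (Cj.of p z)
  have f3 := e3.trans (Cj.of q b)
  have f4 := e4.trans (Cj.of q z)
  rw [hp] at f1
  rw [hq] at f3
  rw [c.zc, mul_inv_cancel_right] at f2 f4
  generalize ι p * g = g at f1 f2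
  generalize ι q * h = h at f3 f4
  obtain ⟨n, hn, e⟩ := c.syl.exists_cj_le (isPGroup_cj g (c.pmap (centralizer {v})))
    (cj_le_iff_forall.2 (by
      rintro _ ⟨x, hx, rfl⟩
      rw [show ι u = _ from f1, centralizer_singleton_conj]
      refine conj_mem_cj g (mem_centralizer_singleton_iff.2 ?_)
      rw [← map_mul, mem_centralizer_singleton_iff.1 hx, map_mul]))
  have k : ∀ x, x * v = v * x → ∃ y, Cj ι (n * g) x y := fun x hx => by
    obtain ⟨y, -, hy⟩ := e (conj_mem_cj n (conj_mem_cj g ⟨x, mem_centralizer_singleton_iff.2 hx, rfl⟩))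
    exact ⟨y, hy.trans (by group)⟩
  have nu : Cj ι (n * g) v u := f1.trans (Cj.self.2 (mem_centralizer_singleton_iff.1 hn))
  obtain ⟨y, hy⟩ := k t ((f2.comm c.inj f1).2 (c.zc u).symm)
  obtain ⟨y', hy'⟩ := k t' ((f4.comm c.inj f3).2 (c.zc u).symm)
  rw [hy.eq_iff c.inj hy', wc _ _ (f1.symm.trans nu) (f2.symm.trans hy),
    wc _ _ (f3.symm.trans nu) (f4.symm.trans hy')]

theorem lemA {g : G} {v t a k : P} (ha : a ∈ U) (a1 : a ∉ zpowers z) (e1 : Cj ι g v a) (e2 : Cj ι g t z)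
    (h : k * v = v * k) : k * t = t * k := by
  have f1 := (Cj.of (ι := ι) k v).symm.trans e1
  rw [h, mul_inv_cancel_right] at f1
  exact mul_inv_eq_iff_eq_mul.1 (c.uniq wc ha a1 ha a1 f1 ((Cj.of k t).symm.trans e2) e1 e2)

theorem flip_K {g : G} {t t' : P} (p : Pr ι z g t) (ht : t ∈ 𝐊) (e : Cj ι g z t') : t' ∈ 𝐊 := by
  by_contra n
  have k : ∀ a ∈ U, a ∉ zpowers z → ∀ v, Cj ι g a v → v ∉ 𝐊 := fun a ha a1 v f hv =>
    n (c.mK.2 (c.lemA wc ha a1 f.symm e.symm (c.mK.1 hv).symm).symm)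
  obtain ⟨v, f⟩ := p.ex u (c.mK.1 ht).symm
  exact k (z * u) (mul_mem c.hz c.hu) (fun h => c.u1 ((mul_mem_cancel_left (mem_zpowers z)).1 h)) _
    (e.mul f) (by simpa using c.idxK t'⁻¹ v (by rwa [inv_mem_iff]) (k u c.hu c.u1 v f))

theorem good {g : G} {t : P} (p : Pr ι z g t) (ht : t ∈ 𝐊) : Good ι U g⁻¹ := by
  have := c.finite
  have := c.normal
  have := c.K_normal
  obtain ⟨t', e, p'⟩ := c.flip p
  have ht' := c.flip_K wc p ht e
  have tU : t ∉ U := fun h => p.ne (c.eq_z h p.cj.isConj)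
  have mX : ∀ {x}, x ∈ centralizer ({t} : Set P) ↔ x * t = t * x := mem_centralizer_singleton_iff
  have mV : ∀ {v}, v ∈ img ι g⁻¹ U ↔ ∃ a ∈ U, Cj ι g v a := fun {v} => mem_img.trans
    ⟨fun ⟨a, h1, h2⟩ => ⟨a, h1, by simpa using h2.symm⟩, fun ⟨a, h1, h2⟩ => ⟨a, h1, h2.symm⟩⟩
  have ex : ∀ a ∈ U, ∃ v, Cj ι g⁻¹ a v := fun a ha => p'.ex a (Pre.cenK ha ht').symm
  set V := img ι g⁻¹ U
  set X := centralizer ({t} : Set P)
  have typ : ∀ v a, a ∈ U → Cj ι g v a → v ≠ 1 → v = t ∨ a ∉ zpowers z := fun v a ha f v1 =>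
    or_iff_not_imp_right.2 fun h => (c.zp.1 (not_not.1 h)).elim
      (fun h => absurd ((f.one_iff c.inj).2 h) v1) fun h => (f.eq_iff c.inj p.cj).2 h
  have nz : ∀ {g} v a, a ∈ U → Cj ι g v a → a ∉ zpowers z → ¬ IsConj (ι v) (ι z) :=
    fun v a ha f a1 h => a1 (c.zp.2 (Or.inr (c.eq_z ha (f.isConj.symm.trans h))))
  have VX : V ≤ X := fun v hv => by
    obtain ⟨a, -, f⟩ := mV.1 hv
    exact mX.2 ((f.comm c.inj p.cj).2 (c.zc a))
  have XV : ∀ k ∈ X, ∀ v ∈ V, k * v * k⁻¹ ∈ V := fun k hk v hv => by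
    obtain ⟨a, ha, f⟩ := mV.1 hv
    obtain ⟨y, hy⟩ := p.ex k (mX.1 hk)
    exact mV.2 ⟨_, c.normal.conj_mem a ha y, (hy.mul f).mul hy.inv⟩
  have dis : ∀ v ∈ V, v ∈ U → v = 1 := fun v hv hv' => by_contra fun v1 => by
    obtain ⟨a, ha, f⟩ := mV.1 hv
    rcases typ v a ha f v1 with h | h
    · exact tU (h ▸ hv')
    · exact p.ne (c.uniq wc ha h hv' (fun h' => nz v a ha f h (by rw [(c.zp.1 h').resolve_left v1])) f
        p.cj (h := 1) (Cj.self.2 (by simp)) (Cj.self.2 (by simp)))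
  have VK : V ≤ 𝐊 := fun v hv a ha => cm_one_iff.1 (dis _
    (mul_mem (XV a (mX.2 (Pre.cenK ha ht).symm) v hv) (inv_mem hv))
    (by rw [cm_swap]; exact inv_mem (mul_mem (c.normal.conj_mem a ha v) (inv_mem ha))))
  have cV : Nat.card V = 4 := card_img c.toPre ex
  have sV : ∀ v ∈ V, v ^ 2 = 1 := fun v => sq_img c.toPre
  obtain ⟨x, x1, x2⟩ := exists_norm_norm c.two (Y := X) fun f => tU (cen_mem c.toPre
    (c.sq_of_conj p.cj.isConj.symm (c.sq z c.hz)) fun x => mX.1 (f.ge trivial))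
  have WX : cj(x, V) ≤ X := cj_le_of_mem_normalizer VX x1
  have WK : cj(x, V) ≤ 𝐊 := (cj_mono x VK).trans (cj_of_normal x _).le
  have XW : ∀ k ∈ X, ∀ w ∈ cj(x, V), k * w * k⁻¹ ∈ cj(x, V) := fun k hk w hw => by
    have := XV _ (inv_conj_mem_of_mem_normalizer x1 hk) _ (mem_cj.1 hw)
    rw [mem_cj]
    convert this using 1
    group
  have sW : ∀ w ∈ cj(x, V), w ^ 2 = 1 := fun w hw => by
    obtain ⟨a, ha, rfl⟩ := mem_cj_iff_exists.1 hw
    rw [conj_pow, sV a ha]; simp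
  have dW : ∀ w ∈ cj(x, V), w ∈ U → w = 1 := fun w hw hw' => by
    obtain ⟨a, ha, rfl⟩ := mem_cj_iff_exists.1 hw
    rw [dis a ha (by simpa [mul_assoc] using c.normal.conj_mem _ hw' x⁻¹)]; simp
  have dVW : ∀ w ∈ V, w ∈ cj(x, V) → w = 1 := fun w hw hw' => by_contra fun w1 => by
    obtain ⟨v, hv, rfl⟩ := mem_cj_iff_exists.1 hw'
    obtain ⟨a, ha, f⟩ := mV.1 hw
    obtain ⟨b, hb, f'⟩ := mV.1 hv
    have f1 := (Cj.of (ι := ι) x v).symm.trans f'
    refine x2 (mX.2 (mul_inv_eq_iff_eq_mul.1 ?_))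
    rcases typ _ a ha f w1 with h | h <;> rcases typ v b hb f' (fun h => w1 (by simp [h])) with h' | h'
    · rw [← h', h, h']
    · exact absurd (h ▸ p.cj.isConj) (nz _ b hb f1 h')
    · exact absurd (f1.isConj.trans (f'.isConj.symm.trans (h' ▸ p.cj.isConj))) (nz _ a ha f h)
    · exact c.uniq wc hb h' ha h f1 ((Cj.of x t).symm.trans p.cj) f p.cj
  have cVW : ∀ k ∈ X, ∀ v ∈ V, ∀ w ∈ cj(x, V), cm k v = cm k w → k * v = v * k :=
    fun k hk v hv w hw f => cm_one_iff.1 (dVW _ (mul_mem (XV k hk v hv) (inv_mem hv))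
      (f ▸ mul_mem (XW k hk w hw) (inv_mem hw)))
  have key : ∀ k ∈ 𝐊, k ∈ X → ∀ v ∈ V, k * v = v * k := fun k hk hk' v hv => by
    obtain ⟨a, ha, w, hw, rfl⟩ := (mem_supU c.toPre).1 (mem_sixteen c.toPre
      (card_sup c.toPre ((card_cj x V).trans cV) dW) (fun _ => sq_sup c.toPre sW WK) (sV v hv)
      fun y hy => by
        obtain ⟨a, ha, w, hw, rfl⟩ := (mem_supU c.toPre).1 hy
        refine (Commute.mul_right (Pre.cenK ha (VK hv)) (cm_one_iff.1 (dVW _ ?_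
          (mul_mem (XW v (VX hv) w hw) (inv_mem hw))))).eq
        rw [cm_swap]
        exact inv_mem (mul_mem (XV w (WX hw) v hv) (inv_mem hv)))
    refine cVW k hk' _ hv w hw ?_
    have h1 : cm k w ∈ 𝐊 := cmK c.toPre k w
    rw [cm_mul_right' (Pre.cenK ha h1).symm, cm_one_iff.2 (Pre.cenK ha hk), one_mul]
  refine ⟨fun a ha => (ex a ha).imp fun v f => ⟨VK (mem_img.2 ⟨a, ha, f⟩), f⟩, fun a ha v hv f =>
    (f.one_iff c.inj).2 (dis v (mem_img.2 ⟨a, ha, f⟩) hv), fun k hk a ha v f a1 h a' ha' v' f' =>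
    key k hk (mX.2 ?_) v' (mem_img.2 ⟨a', ha', f'⟩)⟩
  have f1 : Cj ι g v a := by simpa using f.symm
  rcases typ v a ha f1 (fun h => a1 ((f.one_iff c.inj).2 h)) with h' | h'
  · exact h' ▸ h
  · exact c.lemA wc ha h' f1 p.cj h

theorem wc_false : False := by
  obtain ⟨g, t, ht, p⟩ := c.pr_K
  obtain ⟨t', e, p'⟩ := c.flip p
  exact c.nf (fused_of_good c.toPre (c.good wc p ht) (c.good wc p' (c.flip_K wc p ht e)) c.hu c.hz
    (fun e => c.u1 (c.zp.2 (Or.inl e))) c.z1)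

end Nf

end Cfsg.Agent.NE8
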