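import Mathlib
import Cfsg.Agent.NE8.NF2
import Cfsg.Agent.Grp.CardProduct

set_option autoImplicit false
set_option linter.unusedSectionVars false

/-! The non-fused case when `z` is not weakly closed in `C_P(u)` with respect to `C(u)`. -/

namespace Cfsg.Agent.NE8
open Cfsg Subgroup MacW PLocal.Amb NR2
open scoped commutatorElement

variable {P G : Type*} [Group P] [Group G]

/-- conjugates of `z` under `N` -/
def Zs (ι : P →* G) (N : Subgroup G) (z : P) : Set P := {a | ∃ n ∈ N, Cj ι n z a}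

namespace Nf
variable [Finite G] {ι : P →* G} {S : Sylow 2 G} {U : Subgroup P} {z u s : P} (c : Nf ι S U z u s)
  {Q : Subgroup P} {N : Subgroup G} (l : Lc ι u Q N)
include c l

local notation "𝐊" => centralizer (U : Set P)
local notation "𝐙" => Zs ι N z

theorem QK : Q ≤ 𝐊 := fun q hq => c.mK.2 (l.le q hq)

theorem UQ : U ≤ Q := fun v hv => l.self (c.mK.1 (c.le_K hv)) fun _ hq => Pre.cenK hv (c.QK l hq)

theorem zY {a : P} (ha : a ∈ 𝐙) : a ∈ om Q ⊥ := by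
  obtain ⟨n, hn, e⟩ := ha
  obtain ⟨h1, h2⟩ := l.cen_cj c.inj hn e (c.UQ l c.hz) fun q _ => c.zc q
  exact ⟨h1, ((e.pow 2).one_iff c.inj).1 (c.sq z c.hz), fun q hq => cm_one_iff.2 (h2 q hq).symm⟩

theorem UY : U ≤ om Q ⊥ := fun v hv =>
  ⟨c.UQ l hv, c.sq v hv, fun _ hq => cm_one_iff.2 (Pre.cenK hv (c.QK l hq)).symm⟩

theorem YK : om Q ⊥ ≤ 𝐊 := fun _ h => c.QK l h.1

theorem KY {k y : P} (hk : k ∈ 𝐊) (hy : y ∈ om Q ⊥) : k * y * k⁻¹ ∈ om Q ⊥ := by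
  refine ⟨l.conj c.inj (c.mK.1 hk) hy.1, by rw [conj_pow, hy.2.1]; simp, fun q hq => ?_⟩
  have := hy.2.2 _ (l.conj c.inj (c.mK.1 (inv_mem hk)) hq)
  rw [mem_bot] at this ⊢
  calc cm (k * y * k⁻¹) q = k * cm y (k⁻¹ * q * k⁻¹⁻¹) * k⁻¹ := by unfold cm; group
    _ = 1 := by rw [this]; simp

theorem out {p : P} (hp : p ∉ 𝐊) : ∃ k ∈ 𝐊, p = s * k := ⟨_, c.idxK s p c.hs hp, by group⟩

theorem out' {p : P} (hp : p ∉ 𝐊) : p * s ∈ 𝐊 := by
  simpa using c.idxK p⁻¹ s (by rwa [inv_mem_iff]) c.hs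

theorem YY : om Q ⊥ ⊓ cj(s, om Q ⊥) ≤ U := fun x hx => by
  refine mem_of_set c.toPre (D := ↑(om Q ⊥ ⊓ cj(s, om Q ⊥))) (fun d hd => hd.1.2.1)
    (fun d hd e he => cm_one_iff.1 (hd.1.2.2 e he.1.1)) (fun d hd => c.YK l hd.1) (fun d hd p => ?_) hx
  have h2 : s⁻¹ * d * s ∈ om Q ⊥ := mem_cj.1 hd.2
  by_cases hp : p ∈ 𝐊
  · refine ⟨c.KY l hp hd.1, mem_cj.2 ?_⟩
    convert c.KY l (c.K_normal.conj_mem p hp s⁻¹) h2 using 1
    group
  · refine mem_inf.2 ⟨?_, mem_cj.2 ?_⟩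
    · convert c.KY l (c.out' l hp) h2 using 1
      group
    · convert c.KY l (c.idxK s p c.hs hp) hd.1 using 1
      group

theorem KZ {k a : P} (hk : k ∈ 𝐊) (ha : a ∈ 𝐙) : k * a * k⁻¹ ∈ 𝐙 := by
  obtain ⟨n, hn, e⟩ := ha
  exact ⟨_, mul_mem (l.mem (c.mK.1 hk)) hn, e.trans (Cj.of k a)⟩

theorem nZ {a : P} (ha : a ∈ 𝐙) : u * a ∉ 𝐙 := by
  rintro ⟨m, -, f⟩
  obtain ⟨n, hn, e⟩ := ha
  have := (l.cen n hn).mul e
  rw [c.zc, ← c.su] at this
  exact c.nf ((isConj_of ι s rfl).trans (this.isConj.trans f.isConj.symm))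

theorem cmZ {a b : P} (ha : a ∈ 𝐙) (hb : b ∈ 𝐙) : cm (s * b * s⁻¹) a ∈ zpowers z := by
  have ya := c.zY l ha
  have yb := c.zY l hb
  have ka := c.YK l ya
  have kb := c.K_normal.conj_mem _ (c.YK l yb) s
  have ka' := c.K_normal.conj_mem _ ka s⁻¹
  have e : s⁻¹ * cm (s * b * s⁻¹) a * s = (cm (s⁻¹ * a * s⁻¹⁻¹) b)⁻¹ := by unfold cm; group
  have h1 : cm (s * b * s⁻¹) a ∈ U := c.YY l (mem_inf.2 ⟨mul_mem (c.KY l kb ya) (inv_mem ya),
    mem_cj.2 (e ▸ inv_mem (mul_mem (c.KY l ka' yb) (inv_mem yb)))⟩)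
  rcases c.four' c.hu c.u1 h1 with f | f | f | f
  · exact c.zp.2 (Or.inl f)
  · exact c.zp.2 (Or.inr f)
  · refine absurd ?_ (c.nZ l ha)
    convert c.KZ l kb ha using 1
    rw [← f]; unfold cm; group
  · refine absurd ?_ (c.nZ l hb)
    convert c.KZ l ka' hb using 1
    rw [f, ← c.su] at e
    rw [← c.uinv c.hu, show u = (cm (s⁻¹ * a * s⁻¹⁻¹) b)⁻¹ by rw [← e]; group]
    unfold cm; group

theorem zZ : z ∈ 𝐙 := ⟨1, one_mem _, Cj.self.2 (by simp)⟩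

theorem exists_nc {y : P} (hy : y ∈ 𝐙) (y1 : y ≠ z) :
    ∃ a ∈ 𝐙, ∃ b ∈ 𝐙, cm (s * b * s⁻¹) a = z := by
  by_contra n
  have k : ∀ a ∈ 𝐙, ∀ b ∈ 𝐙, s * b * s⁻¹ * a = a * (s * b * s⁻¹) := fun a ha b hb =>
    cm_one_iff.1 ((c.zp.1 (c.cmZ l ha hb)).resolve_right fun e => n ⟨a, ha, b, hb, e⟩)
  have k' : ∀ a ∈ 𝐙, ∀ b ∈ 𝐙, a * b = b * a := fun a ha b hb =>
    cm_one_iff.1 ((c.zY l ha).2.2 b (c.zY l hb).1)
  obtain ⟨m, hm, e⟩ := hy
  refine y1 (c.eq_z (mem_of_set c.toPre (D := {d | d ∈ 𝐙 ∨ ∃ b ∈ 𝐙, d = s * b * s⁻¹}) ?_ ?_ ?_ ?_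
    (Or.inl ⟨m, hm, e⟩)) e.isConj.symm)
  · rintro d (h | ⟨b, h, rfl⟩)
    · exact (c.zY l h).2.1
    · rw [conj_pow, (c.zY l h).2.1]; simp
  · rintro d (h | ⟨b, h, rfl⟩) d' (h' | ⟨b', h', rfl⟩)
    exacts [k' _ h _ h', (k _ h _ h').symm, k _ h' _ h, by rw [conj_mul, conj_mul, k' _ h _ h']]
  · rintro d (h | ⟨b, h, rfl⟩)
    exacts [c.YK l (c.zY l h), c.K_normal.conj_mem _ (c.YK l (c.zY l h)) s]
  · rintro d (h | ⟨b, h, rfl⟩) p <;> by_cases hp : p ∈ 𝐊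
    · exact Or.inl (c.KZ l hp h)
    · exact Or.inr ⟨_, c.KZ l (c.idxK s p c.hs hp) h, by group⟩
    · exact Or.inr ⟨_, c.KZ l (c.K_normal.conj_mem p hp s⁻¹) h, by group⟩
    · exact Or.inl (by convert c.KZ l (c.out' l hp) h using 1; group)

theorem three {a b : P} (ha : a ∈ 𝐙) (hb : b ∈ 𝐙) (e : cm (s * b * s⁻¹) a = z) {x : P} (hx : x ∈ 𝐙) :
    x = z ∨ x = a ∨ x = z * a := by
  have := c.finite
  have := c.normal
  have := c.zp_normal
  have ya := c.zY l ha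
  have yx := c.zY l hx
  have kb := c.K_normal.conj_mem _ (c.YK l (c.zY l hb)) s
  have zU : ∀ v ∈ 𝐙, v ∈ U → v = z := fun v ⟨_, _, f⟩ hv => c.eq_z hv f.isConj.symm
  have aU : a ∉ U := fun h => c.z1 (e ▸ cm_one_iff.2 (Pre.cenK h kb))
  have za : z * a ∈ 𝐙 := by
    convert c.KZ l kb ha using 1
    rw [← e]; unfold cm; group
  have aa : a * a = 1 := pow_two a ▸ ya.2.1
  have n1 : a ∈ 𝐍[U] := le_normalizer_of_normal (mem_top a)
  have s1 : a ^ 2 ∈ U := (mem_bot.1 ya.2.1) ▸ one_mem U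
  by_cases h : x ∈ adj U a n1 s1
  · rcases mem_adj.1 h with h | h
    · exact Or.inl (zU x hx h)
    have e1 : x = x * a * a := by rw [mul_assoc, aa, mul_one]
    rcases c.four' c.hu c.u1 h with f | f | f | f <;> rw [f] at e1
    · exact Or.inr (Or.inl (by simpa using e1))
    · exact Or.inr (Or.inr e1)
    · exact absurd (e1 ▸ hx) (c.nZ l ha)
    · exact absurd (by rwa [← mul_assoc, c.zc, ← e1]) (c.nZ l za)
  exfalso
  have l1 : adj U a n1 s1 ≤ om Q ⊥ := adj_le (c.UY l) ya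
  have n2 : x ∈ 𝐍[adj U a n1 s1] :=
    centralizer_le_normalizer' _ fun y hy => cm_one_iff.1 ((l1 hy).2.2 x yx.1)
  have s2 : x ^ 2 ∈ adj U a n1 s1 := (mem_bot.1 yx.2.1) ▸ one_mem _
  have l2 : adj _ x n2 s2 ≤ om Q ⊥ := adj_le l1 yx
  let D : Set P := {d | d ∈ U ∨ d ∈ 𝐙 ∨ ∃ b ∈ 𝐙, d = s * b * s⁻¹}
  have one : ∀ {d e : P}, d * e = e * d → cm d e ∈ zpowers z := fun h => by
    rw [cm_one_iff.2 h]; exact one_mem _
  have dK : ∀ d ∈ D, d ∈ 𝐊 ∧ d ^ 2 = 1 := by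
    rintro d (h | h | ⟨b, h, rfl⟩)
    exacts [⟨c.le_K h, c.sq d h⟩, ⟨c.YK l (c.zY l h), (c.zY l h).2.1⟩,
      ⟨c.K_normal.conj_mem _ (c.YK l (c.zY l h)) s, by rw [conj_pow, (c.zY l h).2.1]; simp⟩]
  have UD : U ≤ Subgroup.closure D := fun v hv => subset_closure (Or.inl hv)
  have h1 := card_le_sq c.two c.no (K := Subgroup.closure D) (N := zpowers z) (c.zp_le.trans UD)
    fun y hy => closure_sq (fun d hd => by rw [(dK d hd).2]; exact one_mem _) (by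
      rintro d hd d' (h' | h')
      · exact c.cmU h' d
      rcases hd with h | h | ⟨b, h, rfl⟩ <;> rcases h' with h' | ⟨b', h', rfl⟩
      · exact one (Pre.cenK h (c.YK l (c.zY l h'))).symm
      · exact one (Pre.cenK h (dK _ (Or.inr (Or.inr ⟨b', h', rfl⟩))).1).symm
      · exact one (cm_one_iff.1 ((c.zY l h).2.2 _ (c.zY l h').1))
      · rw [cm_swap]; exact inv_mem (c.cmZ l h h')
      · exact c.cmZ l h' h
      · exact one (by rw [conj_mul, conj_mul, cm_one_iff.1 ((c.zY l h).2.2 _ (c.zY l h').1)])) hy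
  have l3 : adj _ x n2 s2 ≤ Subgroup.closure D := adj_le (adj_le UD
    (subset_closure (Or.inr (Or.inl ha)))) (subset_closure (Or.inr (Or.inl hx)))
  have l4 : cj(s, adj _ x n2 s2) ≤ Subgroup.closure D := cj_le_iff.2 (adj_le (adj_le
    ((cj_of_normal s⁻¹ U).ge.trans (cj_mono _ UD))
    (mem_cj.2 (subset_closure (Or.inr (Or.inr ⟨a, ha, by simp⟩)))))
    (mem_cj.2 (subset_closure (Or.inr (Or.inr ⟨x, hx, by simp⟩)))))
  have h2 := Grp.card_mul_card_le_of_le l3 l4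
  have h3 := card_le_of_le ((inf_le_inf l2 (cj_mono s l2)).trans (c.YY l))
  have h4 := card_zpowers_le (c.sq z c.hz)
  rw [card_cj, card_adj h, card_adj aU, c.card] at h2
  rw [c.card] at h3
  nlinarith

theorem exists_a {y : P} (hy : y ∈ 𝐙) (y1 : y ≠ z) :
    ∃ a ∈ 𝐙, cm (s * a * s⁻¹) a = z ∧ ∀ x ∈ 𝐙, x = z ∨ x = a ∨ x = z * a := by
  obtain ⟨a, ha, b, hb, e⟩ := c.exists_nc l hy y1
  refine ⟨a, ha, ?_, fun x => c.three l ha hb e⟩
  rcases c.three l ha hb e hb with f | f | f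
  · rw [f, c.zc, mul_inv_cancel_right, cm_one_iff.2 (c.zc a).symm] at e
    exact absurd e.symm c.z1
  · exact f ▸ e
  · rw [← e, f]
    calc cm (s * a * s⁻¹) a = z * (s * a * s⁻¹ * a * (s * a * s⁻¹)⁻¹) * z⁻¹ * a⁻¹ := by
          rw [← c.zc, mul_inv_cancel_right]
      _ = _ := by rw [← mul_assoc s z, c.zc s]; unfold cm; group

theorem cmKa {a : P} (ha : a ∈ 𝐙) (e : cm (s * a * s⁻¹) a = z)
    (h3 : ∀ x ∈ 𝐙, x = z ∨ x = a ∨ x = z * a) {k : P} (hk : k ∈ 𝐊) :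
    cm k a ∈ zpowers z ∧ cm k (s * a * s⁻¹) ∈ zpowers z := by
  have h : ∀ k ∈ 𝐊, cm k a ∈ zpowers z := fun k hk => by
    rw [cm]
    rcases h3 _ (c.KZ l hk ha) with h | h | h
    · rw [mul_inv_eq_iff_eq_mul, ← c.zc, mul_right_inj] at h
      rw [h, c.zc, mul_inv_cancel_right, cm_one_iff.2 rfl] at e
      exact absurd e.symm c.z1
    · rw [h]; simp
    · rw [h]; simp
  refine ⟨h k hk, ?_⟩
  convert c.zp_normal.conj_mem _ (h _ (c.K_normal.conj_mem k hk s⁻¹)) s using 1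
  unfold cm; group

theorem no_sq {a : P} (ha : a ∈ 𝐙) (e : cm (s * a * s⁻¹) a = z)
    (h3 : ∀ x ∈ 𝐙, x = z ∨ x = a ∨ x = z * a) {r : P} (hr : r ∈ 𝐊) (ra : r * a = a * r) : r ^ 2 ≠ z := by
  have : Fact (Nat.Prime 2) := ⟨Nat.prime_two⟩
  intro r2
  let L := N ⊓ centralizer (ι '' 𝐙)
  have nL : N ≤ 𝐍[L] := le_normalizer_inf le_normalizer (le_normalizer_iff_cj.2 fun n hn =>
    cj_le_iff_forall.2 fun g hg => by
      rintro _ ⟨x, ⟨m, hm, f⟩, rfl⟩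
      obtain ⟨x', -, f'⟩ := l.surj hn (c.zY l ⟨m, hm, f⟩).1
      rw [show ι x = _ from f', conj_mul, conj_mul,
        hg _ ⟨x', ⟨_, mul_mem (inv_mem hn) hm, f.trans f'.symm⟩, rfl⟩])
  obtain ⟨n, hn, f⟩ := ha
  obtain ⟨m, hm, g, hg, rfl⟩ := (l.syl.inf_of_le (N := L) inf_le_left nL).frattini (nL hn)
  have f1 : Cj ι g z a := by
    have := f.trans (Cj.self.2 (inv_mem (mem_inf.1 hm).2 _ ⟨a, ⟨_, hn, f⟩, rfl⟩).symm)
    rwa [inv_mul_cancel_left] at this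
  obtain ⟨⟨w, hw, e1⟩, -⟩ := conj_mem_of_mem_normalizer hg (x := ι r)
    ⟨⟨r, mem_centralizer_singleton_iff.2 (c.mK.1 hr), rfl⟩, l.mem (c.mK.1 hr), by
      rintro _ ⟨x, hx, rfl⟩
      rw [← map_mul, ← map_mul]
      rcases h3 x hx with h | h | h <;> rw [h]
      · rw [c.zc]
      · rw [ra]
      · rw [mul_assoc, ← ra, ← mul_assoc, ← mul_assoc, c.zc]⟩
  have wK : w ∈ 𝐊 := c.cen_u ▸ hw
  have e2 : w ^ 2 = a := ((Cj.pow (g := g) e1 2).eq_iff c.inj f1).1 r2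
  have e3 := (c.cmKa l ⟨_, hn, f⟩ e h3 wK).2
  have := sq_comm_of (c.zp_cen e3 w) (c.sq _ (c.zp_le e3))
  rw [e2] at this
  exact c.z1 (e ▸ cm_one_iff.2 this)

theorem nwc_false {y : P} (hy : y ∈ 𝐙) (y1 : y ≠ z) : False := by
  have := c.finite
  have := c.normal
  have := c.zp_normal
  obtain ⟨a, ha, e, h3⟩ := c.exists_a l hy y1
  have h4 := fun k => c.cmKa l ha e h3 (k := k)
  have h5 := fun r => c.no_sq l ha e h3 (r := r)
  have aK := c.YK l (c.zY l ha)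
  have aa : a * a = 1 := pow_two a ▸ (c.zY l ha).2.1
  have bK := c.K_normal.conj_mem a aK s
  have bb : s * a * s⁻¹ * (s * a * s⁻¹) = 1 := by rw [conj_mul, aa]; simp
  have hab : ∀ p, p ∉ 𝐊 → p * a * p⁻¹ * (s * a * s⁻¹)⁻¹ ∈ zpowers z := fun p hp => by
    convert c.zp_normal.conj_mem _ (h4 _ (c.idxK s p c.hs hp)).1 s using 1
    unfold cm; group
  have hba : ∀ p, p ∉ 𝐊 → p * (s * a * s⁻¹) * p⁻¹ * a⁻¹ ∈ zpowers z := fun p hp => by
    convert (h4 _ (c.out' l hp)).1 using 1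
    unfold cm; group
  generalize s * a * s⁻¹ = b at e h4 bK bb hab hba
  have ne : b * a ≠ a * b := fun f => c.z1 (e ▸ cm_one_iff.2 f)
  have e' : cm a b = z := by rw [cm_swap, e, inv_eq_of_mul_eq_one_left c.zz]
  have com : ∀ {x p d v : P}, x * v = v * x → p⁻¹ * d * p⁻¹⁻¹ * v⁻¹ ∈ zpowers z →
      p * x * p⁻¹ * d = d * (p * x * p⁻¹) := fun {x p d v} h1 h2 => by
    have := c.zp_cen h2 x
    calc p * x * p⁻¹ * d = p * (x * (p⁻¹ * d * p⁻¹⁻¹ * v⁻¹)) * v * p⁻¹ := by group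
      _ = d * p * v⁻¹ * (x * v) * p⁻¹ := by rw [this]; group
      _ = _ := by rw [h1]; group
  have hn : (𝐊 ⊓ centralizer {a} ⊓ centralizer {b}).Normal := ⟨fun x hx p => by
    have x1 := mem_centralizer_singleton_iff.1 hx.1.2
    have x2 := mem_centralizer_singleton_iff.1 hx.2
    refine ⟨⟨c.K_normal.conj_mem x hx.1.1 p, mem_centralizer_singleton_iff.2 ?_⟩,
      mem_centralizer_singleton_iff.2 ?_⟩ <;> by_cases hp : p⁻¹ ∈ 𝐊
    exacts [com x1 (h4 _ hp).1, com x2 (hab _ hp), com x2 (h4 _ hp).2, com x1 (hba _ hp)]⟩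
  have fixz : ∀ p, p ∉ 𝐊 → ∀ w ∈ U, p * w * p⁻¹ = w → w ∈ zpowers z := fun p hp w hw f =>
    by_contra fun n => c.z1 (by simpa [f] using (c.conj_u hw n hp).symm)
  have CU : ∀ x ∈ 𝐊, cm x a = 1 → cm x b = 1 → x ∈ U := fun x hx x1 x2 => by_contra fun n => by
    obtain ⟨r, hr, r1, -, r2, r3⟩ := exists_om c.two (𝐊 ⊓ centralizer {a} ⊓ centralizer {b}) U fun f =>
      n (f ⟨⟨hx, mem_centralizer_singleton_iff.2 (cm_one_iff.1 x1)⟩,
        mem_centralizer_singleton_iff.2 (cm_one_iff.1 x2)⟩)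
    have r4 : cm s r ∈ U := by rw [cm_swap]; exact inv_mem (r3 s trivial)
    rcases c.zp.1 (fixz s c.hs _ r2 (by
      rw [← conj_pow, show s * r * s⁻¹ = cm s r * r by unfold cm; group,
        Commute.mul_pow (Pre.cenK r4 hr.1.1).symm, c.sq _ r4, one_mul])) with f | f
    · exact r1 (c.mem_U f hr.1.1 fun p => r3 p trivial)
    · exact h5 r hr.1.1 (mem_centralizer_singleton_iff.1 hr.1.2) f
  have ml : ∀ x y w, y ∈ 𝐊 → (w = a ∨ w = b) → cm (x * y) w = cm y w * cm x w := fun x y w hy hw =>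
    cm_mul_left' (c.zp_cen (by rcases hw with rfl | rfl; exacts [(h4 y hy).1, (h4 y hy).2]) x)
  have c1 : ∀ x : P, cm x x = 1 := fun x => cm_one_iff.2 rfl
  have str : ∀ k ∈ 𝐊, k ∈ U ∨ k * a ∈ U ∨ k * b ∈ U ∨ k * (a * b) ∈ U := fun k hk => by
    rcases c.zp.1 (h4 k hk).1 with f | f <;> rcases c.zp.1 (h4 k hk).2 with f' | f'
    · exact Or.inl (CU k hk f f')
    · refine Or.inr (Or.inl (CU _ (mul_mem hk aK) ?_ ?_))
      · rw [ml k a a aK (Or.inl rfl), f, c1, one_mul]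
      · rw [ml k a b aK (Or.inr rfl), f', e', c.zz]
    · refine Or.inr (Or.inr (Or.inl (CU _ (mul_mem hk bK) ?_ ?_)))
      · rw [ml k b a bK (Or.inl rfl), f, e, c.zz]
      · rw [ml k b b bK (Or.inr rfl), f', c1, one_mul]
    · refine Or.inr (Or.inr (Or.inr (CU _ (mul_mem hk (mul_mem aK bK)) ?_ ?_)))
      · rw [ml k _ a (mul_mem aK bK) (Or.inl rfl), ml a b a bK (Or.inl rfl), f, e, c1, mul_one, c.zz]
      · rw [ml k _ b (mul_mem aK bK) (Or.inr rfl), ml a b b bK (Or.inr rfl), f', e', c1, one_mul, c.zz]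
  have s1 : (a * b) ^ 2 ∈ zpowers z := by rw [sq_mul_of_inv aa bb, e']; exact mem_zpowers z
  have n1 : a * b ∈ 𝐍[zpowers z] := le_normalizer_of_normal (mem_top _)
  have sq : ∀ {k d}, d ∈ 𝐊 → k * d ∈ U → d ^ 2 ∈ zpowers z → k ^ 2 ∈ zpowers z := fun {k d} hd h h' => by
    rw [show k = k * d * d⁻¹ by group, Commute.mul_pow (Pre.cenK h (inv_mem hd)).symm, c.sq _ h,
      one_mul, inv_pow]
    exact inv_mem h'
  have one : ∀ {d : P}, d * d = 1 → d ^ 2 ∈ zpowers z := fun h => by rw [pow_two, h]; exact one_mem _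
  have abU : a⁻¹ * b ∉ U := fun h => ne (by
    have := Pre.cenK h aK
    rw [mul_inv_cancel_left, mul_assoc, eq_inv_mul_iff_mul_eq] at this
    exact this.symm)
  refine (mem_adj.1 (c.frat (N := adj _ _ n1 s1) fun p => ?_)).elim c.u1 fun h => ne (by
    have := c.zp_cen h a
    rw [← mul_assoc, c.mK.1 aK, mul_assoc, mul_assoc, mul_assoc, mul_right_inj, mul_right_inj] at this
    exact this.symm)
  by_cases hp : p ∈ 𝐊
  · refine le_adj ?_
    rcases str p hp with h | h | h | h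
    exacts [one (c.uu h), sq aK h (one aa), sq bK h (one bb), sq (mul_mem aK bK) h s1]
  have i1 := hab p hp
  have i2 := hba p hp
  rcases str _ (sqK c.toPre p) with h | h | h | h
  · exact le_adj (fixz p hp _ h (by group))
  · refine absurd ?_ abU
    convert mul_mem (inv_mem h) (mul_mem (c.normal.conj_mem _ h p)
      (c.normal.conj_mem _ (inv_mem (c.zp_le i1)) b⁻¹)) using 1
    group
  · refine absurd ?_ abU
    convert mul_mem (inv_mem (mul_mem (c.normal.conj_mem _ h p)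
      (c.normal.conj_mem _ (inv_mem (c.zp_le i2)) a⁻¹))) h using 1
    group
  refine mem_adj.2 (Or.inr (by_contra fun n => ?_))
  have e1 := c.conj_u h n hp
  generalize hi : p * a * p⁻¹ * b⁻¹ = i at i1
  generalize hj : p * b * p⁻¹ * a⁻¹ = j at i2
  have e2 : p * a * p⁻¹ = i * b := by rw [← hi]; group
  have e3 : p * b * p⁻¹ = j * a := by rw [← hj]; group
  have e4 : i * j = 1 := by
    have : p ^ 2 * (i * j) * (b * a) = p ^ 2 * (b * a) := by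
      calc p ^ 2 * (i * j) * (b * a) = p ^ 2 * (i * (j * b)) * a := by group
        _ = p ^ 2 * (i * b) * (j * a) := by rw [← c.zp_cen i2 b]; group
        _ = z * (p ^ 2 * (a * b)) := by rw [← e1, ← e2, ← e3]; group
        _ = _ := by rw [← mul_assoc, ← c.zc, ← e]; unfold cm; group
    simpa using this
  have e5 : p ^ 2 * a = a * p ^ 2 := by
    calc p ^ 2 * a = p * (p * a * p⁻¹) * p⁻¹ * p ^ 2 := by rw [pow_two]; group
      _ = i * (p * b * p⁻¹) * p ^ 2 := by rw [e2, ← mul_assoc p i, c.zp_cen i1 p]; group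
      _ = _ := by rw [e3, ← mul_assoc i, e4, one_mul]
  have := Pre.cenK h aK
  rw [← mul_assoc, ← e5, mul_assoc, mul_assoc, mul_assoc, mul_right_inj, mul_right_inj] at this
  exact ne this.symm

end Nf

end Cfsg.Agent.NE8
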