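import Mathlib
import Cfsg.Agent.NE8.NF3

set_option autoImplicit false
set_option linter.unusedSectionVars false

/-! The involutions of the normal four-group are fused. -/

namespace Cfsg.Agent.NE8
open Cfsg Subgroup MacW PLocal.Amb NR2
open scoped commutatorElement

variable {P G : Type*} [Group P] [Group G] [Finite G] {ι : P →* G} {S : Sylow 2 G} {U : Subgroup P}

theorem nf_of_central (c : Pre ι S U) (hK : ∀ u ∈ U, ∀ x, x * u = u * x) {t z : P} (ht : t ∈ U)
    (hz : z ∈ U) (h : IsConj (ι t) (ι z)) (ne : t ≠ z) :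
    ∀ u ∈ U, ∀ v ∈ U, u ≠ 1 → v ≠ 1 → IsConj (ι u) (ι v) := by
  have z1 : z ≠ 1 := fun e => ne (by
    rw [e, map_one, isConj_one_left, ← map_one ι] at h; rw [e, c.inj h])
  have t1 := c.ne_of_conj h.symm z1
  obtain ⟨a, h1, h2, m, ⟨k, rfl⟩, s, h3⟩ := c.burn (hK z hz) (hK t ht) h
  have h4 : a z ∈ U := cen_mem c (by rw [← map_pow, c.sq z hz, map_one]) fun x => by
    obtain ⟨x, rfl⟩ := a.surjective x
    rw [← map_mul, hK z hz, map_mul]
  rcases c.four hz ht z1 t1 ne h4 with e | e | e | e
  · exact absurd (by simpa using e) z1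
  · exact absurd (a.injective (h1.trans e.symm)) ne
  · have : ∀ n, ((a ^ 2) ^ n) z = z := fun n => by
      induction n with
      | zero => rfl
      | succ n ih => rw [pow_succ, MulAut.mul_apply, pow_two a, MulAut.mul_apply, e, h1, ← pow_two, ih]
    have h5 := h3 t
    rw [pow_succ, pow_mul, MulAut.mul_apply, h1, this, hK t ht, mul_inv_cancel_right] at h5
    exact absurd h5.symm ne
  have k : ∀ u ∈ U, u ≠ 1 → IsConj (ι u) (ι z) := fun u hu u1 => by
    rcases c.four hz ht z1 t1 ne hu with f | f | f | f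
    exacts [absurd f u1, f ▸ IsConj.refl _, f ▸ h, f ▸ e ▸ (h2 z).symm]
  exact fun u hu v hv u1 v1 => (k u hu u1).trans (k v hv v1).symm

theorem fused (c : Pre ι S U) (hC : ∀ t : P, orderOf t = 2 → (centralizer ({t} : Set P)).index ≤ 2 →
    IsPConstrained 2 (centralizer ({ι t} : Set G))) :
    ∀ u ∈ U, ∀ v ∈ U, u ≠ 1 → v ≠ 1 → IsConj (ι u) (ι v) := by
  have := c.finite
  by_contra n
  by_cases hK : ∀ u ∈ U, ∀ x, x * u = u * x
  · refine central_false c hK (fun u hu v hv h => by_contra fun e => n (nf_of_central c hK hu hv h e))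
      fun u hu u1 => ?_
    have e : centralizer ({u} : Set P) = ⊤ :=
      eq_top_iff.2 fun x _ => mem_centralizer_singleton_iff.2 (hK u hu x)
    refine exists_lc c.inj (c.uu hu) (hC u (orderOf_eq_prime (c.sq u hu) u1) (by simp [e])) ?_
    have hS : (S : Subgroup G) = (⊤ : Subgroup P).map ι := by
      ext g; exact (c.range g).trans (by simp)
    rw [e, ← hS]
    refine isSyl_of_le S fun g hg => ?_
    obtain ⟨x, rfl⟩ := (c.range g).1 hg
    rw [mem_centralizer_singleton_iff, ← map_mul, hK u hu, map_mul]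
  obtain ⟨s, hs⟩ : ∃ s, s ∉ centralizer (U : Set P) := by
    by_contra h
    exact hK fun u hu x => Pre.cenK hu (by_contra fun e => h ⟨x, e⟩)
  obtain ⟨z, d⟩ := exists_pz c
  have k : ∀ u ∈ U, u ≠ 1 → IsConj (ι u) (ι z) := fun u hu u1 => by_contra fun nf => by
    have b : Nf ι S U z u s := ⟨d, hu, fun h => nf (by rw [(d.zp.1 h).resolve_left u1]), hs, nf⟩
    refine b.wc_false fun g y e f => by_contra fun y1 => ?_
    obtain ⟨Q, N, l⟩ := exists_lc c.inj (c.uu hu) (hC u (orderOf_eq_prime (c.sq u hu) u1) (by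
      have h1 := b.cardK
      have h2 := (centralizer (U : Set P)).index_mul_card
      have h3 := Nat.card_pos (α := centralizer (U : Set P))
      rw [b.cen_u]
      nlinarith)) b.syl
    exact b.nwc_false l (l.ctl g e z (b.UQ l d.hz) y f) y1
  exact n fun u hu v hv u1 v1 => (k u hu u1).trans (k v hv v1).symm

end Cfsg.Agent.NE8
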